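import Cfsg.Agent.Lib.ConjFun.Degree
import Mathlib

/-!
# The representation on an elementary abelian section

`exists_sectionRep`: the action on `W / E` as a `ZMod p`-representation, together with the class map.
-/

set_option autoImplicit false

namespace Cfsg.Agent.JTransfer

open Subgroup
open scoped commutatorElement

universe u

theorem exists_sectionRep {G : Type u} [Group G] [Finite G] {p : ℕ} [Fact p.Prime] {W E : Subgroup G}
    [hWn : W.Normal] [hEn : E.Normal] (hWW : ⁅W, W⁆ ≤ E) (hpE : ∀ x ∈ W, x ^ p ∈ E) :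
    ∃ (V : Type u) (_ : AddCommGroup V) (_ : Module (ZMod p) V) (_ : Finite V)
      (ρ : G →* Module.End (ZMod p) V) (κ : ↥W → V),
      Function.Surjective κ ∧ (∀ x y, κ (x * y) = κ x + κ y) ∧ (∀ x, κ x = 0 ↔ (x : G) ∈ E) ∧
      (∀ (g : G) (x : ↥W), ρ g (κ x) = κ ⟨g * x * g⁻¹, hWn.conj_mem x x.2 g⟩) ∧
      (∀ g, ρ g = 1 ↔ ∀ x ∈ W, ⁅g, x⁆ ∈ E) ∧
      ∀ (g : G) (m : ℕ), Cfsg.iterCommutator W (zpowers g) m ≤ E → (ρ g - 1) ^ m = 0 := by
  set π := QuotientGroup.mk' E with hπ
  set V := W.map π with hV
  haveI hVn : V.Normal := hWn.map π (QuotientGroup.mk'_surjective E)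
  have hVc : ∀ x ∈ V, ∀ y ∈ V, x * y = y * x := by
    rintro _ ⟨x, hx, rfl⟩ _ ⟨y, hy, rfl⟩
    rw [← commutatorElement_eq_one_iff_mul_comm, ← map_commutatorElement]
    exact (QuotientGroup.eq_one_iff _).2 (hWW (commutator_mem_commutator hx hy))
  letI : CommGroup V := { (inferInstance : Group V) with
    mul_comm := fun a b => Subtype.ext (hVc a a.2 b b.2) }
  haveI : Module (ZMod p) (Additive V) := AddCommGroup.zmodModule fun v => by
    apply Additive.toMul.injective
    rw [toMul_nsmul, toMul_zero]
    obtain ⟨x, hx, e⟩ := (Additive.toMul v).2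
    refine Subtype.ext ?_
    rw [SubgroupClass.coe_pow, ← e, ← map_pow]
    exact (QuotientGroup.eq_one_iff _).2 (hpE x hx)
  let act : G →* Module.End (ZMod p) (Additive V) :=
    { toFun := fun g => (MonoidHom.toAdditive (MulAut.conjNormal (π g) : MulAut V).toMonoidHom).toZModLinearMap p
      map_one' := LinearMap.ext fun v => Additive.toMul.injective (Subtype.ext (by
        show π 1 * ((Additive.toMul v : V) : G ⧸ E) * (π 1)⁻¹ = ((Additive.toMul v : V) : G ⧸ E)
        simp))
      map_mul' := fun g h => LinearMap.ext fun v => Additive.toMul.injective (Subtype.ext (by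
        show π (g * h) * ((Additive.toMul v : V) : G ⧸ E) * (π (g * h))⁻¹ =
          π g * (π h * ((Additive.toMul v : V) : G ⧸ E) * (π h)⁻¹) * (π g)⁻¹
        rw [map_mul]; group)) }
  have hact : ∀ (g : G) (v : V), ((Additive.toMul (act g (Additive.ofMul v)) : V) : G ⧸ E) =
      π g * v * (π g)⁻¹ := fun g v => MulAut.conjNormal_apply (π g) v
  let κ : ↥W → Additive V := fun x => Additive.ofMul ⟨π x, x, x.2, rfl⟩
  have hκ : Function.Surjective κ := fun v => by
    obtain ⟨x, hx, e⟩ := (Additive.toMul v).2
    exact ⟨⟨x, hx⟩, Additive.toMul.injective (Subtype.ext e)⟩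
  refine ⟨Additive V, inferInstance, inferInstance, inferInstance, act, κ, hκ, fun x y => ?_, fun x => ?_,
    fun g x => ?_, fun g => ?_, fun g m hm => ?_⟩
  · exact Additive.toMul.injective (Subtype.ext (map_mul π (x : G) y))
  · rw [← QuotientGroup.eq_one_iff (N := E) (x : G)]
    exact ⟨fun e => congrArg (fun w : Additive V => ((Additive.toMul w : V) : G ⧸ E)) e,
      fun e => Additive.toMul.injective (Subtype.ext e)⟩
  · refine Additive.toMul.injective (Subtype.ext ((hact g _).trans ?_))
    show π g * π x * (π g)⁻¹ = π (g * x * g⁻¹)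
    rw [map_mul, map_mul, map_inv]
  · constructor
    · intro hg x hx
      have h1 := hact g ⟨π x, x, hx, rfl⟩
      rw [hg] at h1
      change π x = π g * π x * (π g)⁻¹ at h1
      refine (QuotientGroup.eq_one_iff _).1 ?_
      show π ⁅g, x⁆ = 1
      rw [map_commutatorElement, commutatorElement_def, ← h1, mul_inv_cancel]
    · intro hg
      refine LinearMap.ext fun v => Additive.toMul.injective (Subtype.ext ?_)
      obtain ⟨x, hx, e⟩ := (Additive.toMul v).2
      rw [show act g v = act g (Additive.ofMul (Additive.toMul v)) from rfl, hact]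
      show π g * ((Additive.toMul v : V) : G ⧸ E) * (π g)⁻¹ = ((Additive.toMul v : V) : G ⧸ E)
      rw [← e, ← map_inv, ← map_mul, ← map_mul]
      refine QuotientGroup.eq.2 ?_
      have := hEn.conj_mem _ (inv_mem (hg x hx)) x⁻¹
      simpa [commutatorElement_def, mul_assoc] using this
  · set N := act g - 1 with hN
    have hiter : ∀ (j : ℕ) (v : V), ((Additive.toMul ((N ^ j) (Additive.ofMul v)) : V) : G ⧸ E) ∈
        (Cfsg.iterCommutator W (zpowers g) j).map π := by
      intro j
      induction j with
      | zero => exact fun v => v.2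
      | succ j ih =>
        intro v
        rw [pow_succ', Module.End.mul_apply]
        obtain ⟨x, hx, e⟩ := ih v
        generalize (N ^ j) (Additive.ofMul v) = w at e ⊢
        refine ⟨⁅x, g⁆⁻¹, inv_mem (commutator_mem_commutator hx (mem_zpowers g)), ?_⟩
        rw [hN, LinearMap.sub_apply, Module.End.one_apply, toMul_sub, Subgroup.coe_div,
          show act g w = act g (Additive.ofMul (Additive.toMul w)) from rfl, hact, ← e]
        simp [commutatorElement_def, div_eq_mul_inv, mul_assoc]
    refine LinearMap.ext fun v => Additive.toMul.injective (Subtype.ext ?_)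
    obtain ⟨y, hy, e⟩ := hiter m (Additive.toMul v)
    rw [ofMul_toMul] at e
    rw [← e]
    exact (QuotientGroup.eq_one_iff y).2 (hm hy)

end Cfsg.Agent.JTransfer
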