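import Cfsg.Agent.Lib.HallHigmanCritical.TheoremB
import Cfsg.Agent.Lib.PCore.PSolvable
import Cfsg.Agent.Lib.JTransfer.SectionRep

/-!
# Six commutations and `p'`-groups (`p ≥ 7`)

`comm_comm_mem`: if `C` acts on the elementary section `W / E` as a `p'`-group, `a` normalizes `C` and
`⁅W, a, …, a⁆ ≤ E` with six entries `a`, then `⁅C, a⁆` acts trivially on `W / E`.
-/

set_option autoImplicit false

namespace Cfsg.Agent.JTransfer

open Subgroup
open scoped commutatorElement

universe u

variable {G : Type u} [Group G] [Finite G] {p : ℕ} [Fact p.Prime]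

theorem pCore_eq_bot_of_cyclic_top {X : Type*} [Group X] [Finite X] {C : Subgroup X} [C.Normal]
    (hC : (Nat.card C).Coprime p) {a : X} (ha : a ^ p = 1) (hgen : C ⊔ zpowers a = ⊤)
    (hne : ¬ a ∈ centralizer (C : Set X)) : Cfsg.pCore p X = ⊥ := by
  set J := Cfsg.pCore p X with hJ
  have hJp : IsPGroup p J := PCore.isPGroup_pCore
  have hd : J ⊓ C = ⊥ := by
    obtain ⟨k, hk⟩ := hJp.exists_card_eq
    exact Coprime.disjoint_of_coprime_card (hk ▸ hC.symm.pow_left k)
  have ha1 : a ≠ 1 := fun e => hne (e ▸ one_mem _)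
  have hord : orderOf a = p := orderOf_eq_prime ha ha1
  have hA : IsPGroup p (zpowers a) := IsPGroup.of_card (n := 1) (by rw [Nat.card_zpowers, hord, pow_one])
  have hidx : ¬ p ∣ (zpowers a).index := by
    intro hdiv
    have h1 : (zpowers a).index ∣ Nat.card C := by
      have hd' : zpowers a ⊓ C = ⊥ := Coprime.disjoint_of_coprime_card
        (by rw [Nat.card_zpowers, hord]; exact hC.symm)
      have h2 := Coprime.card_sup_of_le_normalizer
        (le_top.trans (normalizer_eq_top (H := C)).ge : zpowers a ≤ normalizer (C : Set X)) hd'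
      rw [sup_comm, hgen, card_top, ← card_mul_index (zpowers a)] at h2
      exact dvd_of_eq (Nat.eq_of_mul_eq_mul_left Nat.card_pos h2)
    exact (Nat.Prime.coprime_iff_not_dvd Fact.out).1 hC.symm (hdiv.trans h1)
  have hJA : J ≤ zpowers a := PCore.pCore_le_sylow (hA.toSylow hidx)
  have hJn : J.Normal := PCore.pCore_normal
  by_contra hne0
  have hJeq : J = zpowers a := by
    refine eq_of_le_of_card_ge hJA ?_
    rw [Nat.card_zpowers, hord]
    obtain ⟨k, hk⟩ := hJp.exists_card_eq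
    rcases k with _ | k
    · exact absurd (J.eq_bot_of_card_eq (hk.trans (pow_zero p))) hne0
    · rw [hk]
      exact Nat.le_self_pow k.succ_ne_zero p
  exact hne ((commutator_eq_bot_iff_le_centralizer.1
    (le_bot_iff.1 ((commutator_le_inf J C).trans hd.le))) (hJeq.ge (mem_zpowers a)))

theorem core_commute {K : Type*} [Field K] [IsAlgClosed K] [CharP K p] {W : Type*} [AddCommGroup W]
    [Module K W] [FiniteDimensional K W] (hp : 7 ≤ p) (φ : G →* Module.End K W) {C : Subgroup G}
    (hC : ¬ p ∣ φ.ker.relIndex C) {a : G} (haC : a ∈ normalizer (C : Set G))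
    (habN : (φ a - 1) ^ 6 = 0) : ∀ c ∈ C, φ ⁅c, a⁆ = 1 := by
  classical
  have hpp : p.Prime := Fact.out
  let H := C ⊔ zpowers a
  let ρ : H →* (Module.End K W)ˣ := φ.toHomUnits.comp H.subtype
  let X := ↥H ⧸ ρ.ker
  let Ψ : X →* Module.End K W := (Units.coeHom (Module.End K W)).comp (QuotientGroup.kerLift ρ)
  have hfaith : Function.Injective Ψ :=
    fun x y h => QuotientGroup.kerLift_injective ρ (Units.ext h)
  let f : H →* X := QuotientGroup.mk' ρ.ker
  have hρker : ∀ h : H, f h = 1 ↔ (h : G) ∈ φ.ker := fun h =>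
    (QuotientGroup.eq_one_iff h).trans ⟨fun e => congrArg Units.val e, fun e => Units.ext e⟩
  let Cb : Subgroup X := (C.subgroupOf H).map f
  haveI : (C.subgroupOf H).Normal := (normal_subgroupOf_iff_le_normalizer le_sup_left).2
    (sup_le le_normalizer (zpowers_le.2 haC))
  haveI hCbn : Cb.Normal := (inferInstance : (C.subgroupOf H).Normal).map f (QuotientGroup.mk'_surjective _)
  have hCbcop : (Nat.card Cb).Coprime p := by
    refine ((Nat.Prime.coprime_iff_not_dvd hpp).2 fun hdiv => hC ?_).symm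
    refine hdiv.trans (dvd_of_eq ?_)
    let g : C →* X := f.comp (Subgroup.inclusion (le_sup_left : C ≤ H))
    have h1 : g.ker = φ.ker.subgroupOf C := by
      ext c
      rw [MonoidHom.mem_ker, mem_subgroupOf]
      exact hρker _
    have h2 : g.range = Cb := by
      ext x
      constructor
      · rintro ⟨c, rfl⟩
        exact ⟨_, c.2, rfl⟩
      · rintro ⟨c, hc, rfl⟩
        exact ⟨⟨c, hc⟩, rfl⟩
    rw [← h2, relIndex, ← h1, index_ker]
  let ab : X := f ⟨a, mem_sup_right (mem_zpowers a)⟩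
  have hgen : Cb ⊔ zpowers ab = ⊤ := by
    show (C.subgroupOf H).map f ⊔ zpowers (f _) = ⊤
    rw [← MonoidHom.map_zpowers, ← Subgroup.map_sup]
    refine (congrArg _ ?_).trans (map_top_of_surjective f (QuotientGroup.mk'_surjective _))
    apply map_injective H.subtype_injective
    rw [Subgroup.map_sup, map_subgroupOf_eq_of_le le_sup_left, MonoidHom.map_zpowers, ← MonoidHom.range_eq_map,
      range_subtype]
    rfl
  have habp : ab ^ p = 1 := by
    refine hfaith ?_
    rw [map_pow, map_one]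
    show (φ a) ^ p = 1
    rw [← sub_eq_zero]
    have h := congrArg (Polynomial.aeval (φ a))
      (sub_pow_char (R := Polynomial K) (p := p) (x := Polynomial.X) (y := 1))
    simp only [map_pow, map_sub, Polynomial.aeval_X, map_one, one_pow] at h
    rw [← h, show p = 6 + (p - 6) by omega, pow_add, habN, zero_mul]
  by_cases hcom : ab ∈ centralizer (Cb : Set X)
  · intro c hc
    have h1 := hcom (f ⟨c, mem_sup_left hc⟩) ⟨_, hc, rfl⟩
    have h2 : f ⁅(⟨c, mem_sup_left hc⟩ : H), (⟨a, mem_sup_right (mem_zpowers a)⟩ : H)⁆ = 1 := by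
      rw [map_commutatorElement, commutatorElement_eq_one_iff_mul_comm]
      exact h1
    exact MonoidHom.mem_ker.1 ((hρker _).1 h2)
  exfalso
  have hcore := pCore_eq_bot_of_cyclic_top hCbcop habp hgen hcom
  have hsolv : Cfsg.IsPSolvable p X := by
    refine PCore.isPSolvable_of_normal Cb (PCore.isPSolvable_of_coprime hCbcop) ?_
    refine PCore.isPSolvable_of_isPGroup (IsPGroup.of_surjective (G := ↥(zpowers ab)) ?_
      ((QuotientGroup.mk' Cb).comp (zpowers ab).subtype) ?_)
    · refine IsPGroup.of_card_dvd_pow (n := 1) ?_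
      rw [Nat.card_zpowers, pow_one]
      exact orderOf_dvd_of_pow_eq_one habp
    · intro y
      obtain ⟨x, rfl⟩ := QuotientGroup.mk'_surjective Cb y
      obtain ⟨c, hc, z, hz, rfl⟩ := mem_sup_of_normal_left.1 (hgen.ge (mem_top x))
      refine ⟨⟨z, hz⟩, ?_⟩
      show QuotientGroup.mk' Cb z = QuotientGroup.mk' Cb (c * z)
      rw [map_mul, show QuotientGroup.mk' Cb c = 1 from (QuotientGroup.eq_one_iff c).2 hc, one_mul]
  have hne : ab ≠ 1 := fun e => hcom (e ▸ one_mem _)
  obtain ⟨n₀, q, m, hn₀, hn₀1, hq, hm, heq, -, hle⟩ := HallHigmanCritical.exceptional_of_nilpotent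
    Ψ hfaith hsolv hcore (x := ab) (n := 1) le_rfl
    (by rw [pow_one]; exact orderOf_eq_prime habp hne) 6 habN (by rw [pow_one]; omega)
  have hn : n₀ = 1 := by omega
  subst hn
  simp only [Nat.sub_self, pow_zero, pow_one, one_mul] at hle heq
  have hq6 : q ^ m = 6 := by omega
  have hqd : q ∣ 2 * 3 := by
    rw [show (2 : ℕ) * 3 = q ^ m by omega]
    exact dvd_pow_self q (by omega)
  rcases hq.dvd_mul.1 hqd with h | h
  · rw [(Nat.prime_dvd_prime_iff_eq hq Nat.prime_two).1 h] at hq6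
    have : (3 : ℕ) ∣ 2 ^ m := ⟨2, by omega⟩
    exact absurd ((Nat.prime_dvd_prime_iff_eq Nat.prime_three Nat.prime_two).1
      (Nat.prime_three.dvd_of_dvd_pow this)) (by norm_num)
  · rw [(Nat.prime_dvd_prime_iff_eq hq Nat.prime_three).1 h] at hq6
    have : (2 : ℕ) ∣ 3 ^ m := ⟨3, by omega⟩
    exact absurd ((Nat.prime_dvd_prime_iff_eq Nat.prime_two Nat.prime_three).1
      (Nat.prime_two.dvd_of_dvd_pow this)) (by norm_num)


theorem comm_comm_mem (hp : 7 ≤ p) {W E C : Subgroup G} [hWn : W.Normal] [hEn : E.Normal]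
    (hWW : ⁅W, W⁆ ≤ E) (hpE : ∀ x ∈ W, x ^ p ∈ E) {K : Subgroup G} (hK : ∀ c, c ∈ K ↔ ∀ x ∈ W, ⁅c, x⁆ ∈ E)
    (hC : ¬ p ∣ K.relIndex C) {a : G} (haC : a ∈ normalizer (C : Set G))
    (h6 : Cfsg.iterCommutator W (zpowers a) 6 ≤ E) : ∀ c ∈ C, ⁅c, a⁆ ∈ K := by
  obtain ⟨V, _, _, _, ρ, κ, -, -, -, -, hker, hnil⟩ := exists_sectionRep (p := p) hWW hpE
  obtain ⟨d, ψ, hψ⟩ := HallHigman.exists_extend (ZMod p) V
  have hker' : ∀ g, ρ g = 1 ↔ g ∈ K := fun g => (hker g).trans (hK g).symm
  intro c hc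
  rw [← hker']
  refine hψ ?_
  rw [map_one]
  refine core_commute hp (ψ.toMonoidHom.comp ρ) (C := C) ?_ haC ?_ c hc
  · intro hdiv
    refine hC (hdiv.trans (dvd_of_eq (congrArg (fun L : Subgroup G => L.relIndex C) ?_)))
    ext g
    rw [MonoidHom.mem_ker, ← hker']
    exact ⟨fun e => hψ (e.trans (map_one ψ).symm), fun e => by
      show ψ (ρ g) = 1
      rw [e, map_one]⟩
  · show (ψ (ρ a) - 1) ^ 6 = 0
    rw [← map_one ψ, ← map_sub, ← map_pow, hnil a 6 h6, map_zero]

end Cfsg.Agent.JTransfer
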