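import Cfsg.Agent.Lib.JTransfer.Components
import Cfsg.Agent.Lib.PMinFF.GlueLocal
import Cfsg.Agent.Lib.PushingUp.Basic
import Cfsg.Agent.Lib.PGroup.Thompson
import Cfsg.Agent.Lib.ConjFun.Parts
import Cfsg.Agent.Lib.Coprime.Stabilize
import Cfsg.Agent.Lib.Coprime.Factorization
import Cfsg.Agent.Lib.LocalStructure.WeaklyClosed
import Cfsg.Agent.Lib.ConjFun.Basic
import Cfsg.Agent.Lib.Transfer.Residual

/-!
# The centre of `O_p` when its centralizer lies in the maximal subgroup

`exists_theta`: `V` is elementary abelian normal, centralized by `O_p(G)`, `C(V) ≤ M`, the only maximal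
subgroup over `S`; `A` is abelian of largest order in `S`, outside `O_p(G)` and quadratic on `V`.  Then some
`I`, `J` in the normal closure of `A` make `⁅I, J⁆` and `J * J` central modulo `C(V)` in that closure, and `A`
centralizes what `⁅I, J⁆` fixes in `V`.
-/

set_option autoImplicit false
set_option linter.style.haveILetI false

namespace Cfsg.Agent.JTransfer

open Subgroup Subnormal PMinFF
open scoped commutatorElement Pointwise

universe u

variable {G : Type u} [Group G] [Finite G] {p : ℕ} [Fact p.Prime]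

theorem card_map_mul {H : Type*} [Group H] (f : G →* H) (B : Subgroup G) :
    Nat.card ↥(B.map f) * Nat.card ↥(B ⊓ f.ker) = Nat.card ↥B := by
  rw [← relIndex_ker, ← inf_relIndex_left, mul_comm, ← relIndex_bot_left,
    relIndex_mul_relIndex _ _ _ bot_le inf_le_left, relIndex_bot_left]

/-- A normal `p`-extension of `C ≤ M` adds nothing, `M` being the only maximal subgroup over `S`. -/
theorem le_of_isPGroup_quotient {S : Sylow p G} {M : Subgroup G} (hne : M ≠ ⊤) (hSM : (S : Subgroup G) ≤ M)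
    (huniq : ∀ X : Subgroup G, (S : Subgroup G) ≤ X → X ≠ ⊤ → X ≤ M) {C K : Subgroup G} [C.Normal]
    [K.Normal] (hQC : Cfsg.pCore p G ≤ C) (hCM : C ≤ M) (hCK : C ≤ K)
    (hq : IsPGroup p ↥(K.map (QuotientGroup.mk' C))) : K ≤ C := by
  set J := ((S : Subgroup G) ⊓ K) ⊔ C with hJ
  have hJK : J ≤ K := sup_le inf_le_right hCK
  have h1 : ¬ p ∣ J.relIndex K := fun h => ConjFun.not_dvd_relIndex_inf (H := ⊤) (L := K) (T := (S : Subgroup G))
    S.2 (by rw [relIndex_top_right]; exact S.not_dvd_index) le_top (normalizer_eq_top (H := K)).ge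
    (h.trans (relIndex_dvd_of_le_left K le_sup_left))
  have h2 : ∃ k, J.relIndex K = p ^ k := by
    obtain ⟨k, hk⟩ := hq.exists_card_eq
    have h3 : J.relIndex K ∣ p ^ k := by
      rw [← hk, ← relIndex_ker, QuotientGroup.ker_mk']
      exact relIndex_dvd_of_le_left K le_sup_right
    obtain ⟨i, -, hi⟩ := (Nat.dvd_prime_pow Fact.out).1 h3
    exact ⟨i, hi⟩
  obtain ⟨k, hk⟩ := h2
  have hk0 : k = 0 := by
    by_contra h
    exact h1 (hk ▸ dvd_pow_self p h)
  have hKJ : K ≤ J := relIndex_eq_one.1 (by rw [hk, hk0, pow_zero])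
  have hKM : K ≤ M := hKJ.trans (sup_le (inf_le_left.trans hSM) hCM)
  exact hKJ.trans (sup_le ((PushingUp.inf_le_pCore_of_uniq hne huniq hKM).trans hQC) le_rfl)

/-- A `p'`-element fixing `Z` and translating `v` by an element of `Z` fixes `v`. -/
theorem commute_of_inv_mul_mem {V Z : Subgroup G} (hV : IsPGroup p ↥V) (hZV : Z ≤ V) {x v : G}
    (hx : (orderOf x).Coprime p) (hxZ : ∀ z ∈ Z, x * z = z * x) (h : x * v * x⁻¹ * v⁻¹ ∈ Z) :
    x * v = v * x := by
  have hc : (orderOf x).Coprime (orderOf (x * v * x⁻¹ * v⁻¹)) := by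
    obtain ⟨k, hk⟩ := hV ⟨_, hZV h⟩
    exact (hx.pow_right k).coprime_dvd_right (orderOf_dvd_of_pow_eq_one (congrArg Subtype.val hk))
  exact (Coprime.commute_of_translate (z := x * v * x⁻¹ * v⁻¹) (by rw [inv_mul_cancel_right])
    (hxZ _ h) hc).eq

/-- The fixed points of `G` modulo `Z = V ⊓ C(O^p(G))` lie in `Z`. -/
theorem mem_inf_centralizer_pResidual {V : Subgroup G} (hV : IsPGroup p ↥V) {v : G} (hv : v ∈ V)
    (h : ∀ x : G, (orderOf x).Coprime p →
      x * v * x⁻¹ * v⁻¹ ∈ V ⊓ centralizer (Cfsg.pResidual p G : Set G)) :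
    v ∈ V ⊓ centralizer (Cfsg.pResidual p G : Set G) := by
  refine ⟨hv, ?_⟩
  have h1 : Cfsg.pResidual p G ≤ centralizer ({v} : Set G) := by
    rw [Cfsg.pResidual, closure_le]
    intro x hx
    refine mem_centralizer_singleton_iff.2 ?_
    exact commute_of_inv_mul_mem hV inf_le_left hx
      (fun z (hz : z ∈ V ⊓ centralizer (Cfsg.pResidual p G : Set G)) => hz.2 x (subset_closure hx))
      (h x hx)
  exact fun x hx => mem_centralizer_singleton_iff.1 (h1 hx)

theorem exists_theta (hp : 5 ≤ p) {S : Sylow p G} {M : Subgroup G} (hne : M ≠ ⊤)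
    (hSM : (S : Subgroup G) ≤ M) (huniq : ∀ X : Subgroup G, (S : Subgroup G) ≤ X → X ≠ ⊤ → X ≤ M)
    {V : Subgroup G} [V.Normal] (hVe : Cfsg.IsElementaryAbelian p V) (hVQ : V ≤ Cfsg.pCore p G)
    (hQV : Cfsg.pCore p G ≤ centralizer (V : Set G)) (hCM : centralizer (V : Set G) ≤ M)
    {A : Subgroup G} (hA : PGroup.IsMaxAb (S : Subgroup G) A) (hAQ : ¬ A ≤ Cfsg.pCore p G)
    (hquad : ∀ v ∈ V, ∀ a ∈ A, ∀ b ∈ A, ⁅⁅v, a⁆, b⁆ = 1) :
    ∃ I ∈ normalClosure (A : Set G), ∃ J ∈ normalClosure (A : Set G),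
      (∀ (g : G), ∀ a ∈ A, ⁅⁅I, J⁆, g * a * g⁻¹⁆ ∈ centralizer (V : Set G) ∧
        ⁅J * J, g * a * g⁻¹⁆ ∈ centralizer (V : Set G)) ∧
      ∀ v ∈ V, ⁅I, J⁆ * v * ⁅I, J⁆⁻¹ = v → v ∈ centralizer (A : Set G) := by
  set Q := Cfsg.pCore p G with hQ
  set C := centralizer (V : Set G) with hC
  haveI hCn : C.Normal := normal_centralizer
  have hVp : IsPGroup p ↥V := PGroup.isPGroup_of_elementaryAbelian hVe
  have hAC : ¬ A ≤ C := fun h => hAQ fun a ha =>
    PushingUp.inf_le_pCore_of_uniq hne huniq hCM ⟨hA.1 ha, h ha⟩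
  haveI : (Cfsg.pResidual p G).Normal := Transfer.pResidual_normal p
  set Z := V ⊓ centralizer (Cfsg.pResidual p G : Set G) with hZ
  haveI hZn : Z.Normal := inferInstance
  set π := QuotientGroup.mk' Z with hπ
  have hπs : Function.Surjective π := QuotientGroup.mk'_surjective Z
  have hkerπ : π.ker = Z := QuotientGroup.ker_mk' Z
  set V' := V.map π with hV'
  haveI hV'n : V'.Normal := (inferInstance : V.Normal).map π hπs
  have hV'e : Cfsg.IsElementaryAbelian p V' := PGroup.isElementaryAbelian_map hVe π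
  set f : G →* Offender.Model V' := (Offender.toModel V').comp π with hf
  have hmemker : ∀ g, g ∈ f.ker ↔ ∀ v ∈ V, g * v * g⁻¹ * v⁻¹ ∈ Z := by
    intro g
    rw [MonoidHom.mem_ker, hf, MonoidHom.comp_apply, ← MonoidHom.mem_ker, Offender.ker_toModel]
    constructor
    · intro hg v hv
      rw [← hkerπ, MonoidHom.mem_ker, map_mul, map_mul, map_mul, map_inv, map_inv,
        ← hg (π v) ⟨v, hv, rfl⟩, mul_inv_cancel_right, mul_inv_cancel]
    · rintro hg _ ⟨v, hv, rfl⟩
      have h1 : π (g * v * g⁻¹ * v⁻¹) = 1 := (QuotientGroup.eq_one_iff _).2 (hg v hv)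
      rw [map_mul, map_mul, map_mul, map_inv, map_inv, mul_inv_eq_one, mul_inv_eq_iff_eq_mul] at h1
      exact h1.symm
  -- the kernel of the action on `V / Z` is `C`
  have hkerC : f.ker = C := by
    have hCle : C ≤ f.ker := fun g hg => (hmemker g).2 fun v hv => by
      rw [← hg v hv, mul_inv_cancel_right, mul_inv_cancel]
      exact one_mem Z
    refine le_antisymm (le_of_isPGroup_quotient hne hSM huniq hQV hCM hCle ?_) hCle
    rintro ⟨y, x, hx, rfl⟩
    obtain ⟨x₁, x₂, hxe, hx₁, hx₂, m, hm⟩ := ConjFun.exists_decomp (p := p) x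
    have hx₂K : x₂ ∈ f.ker := by
      rw [show x₂ = x₁⁻¹ * x by rw [hxe, inv_mul_cancel_left], hm]
      exact mul_mem (inv_mem (pow_mem hx m)) hx
    have hx₂C : x₂ ∈ C := fun v hv => (commute_of_inv_mul_mem hVp inf_le_left hx₂
      (fun z (hz : z ∈ Z) => hz.2 x₂ (subset_closure hx₂)) ((hmemker x₂).1 hx₂K v hv)).symm
    obtain ⟨k, hk⟩ := hx₁ ⟨x₁, mem_zpowers x₁⟩
    refine ⟨k, Subtype.ext ?_⟩
    show QuotientGroup.mk' C x ^ p ^ k = 1
    rw [hxe, map_mul, show QuotientGroup.mk' C x₂ = 1 from (QuotientGroup.eq_one_iff _).2 hx₂C, mul_one,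
      ← map_pow, show x₁ ^ p ^ k = 1 from congrArg Subtype.val hk, map_one]
  set Vb := Offender.modelV V' with hVb
  set Xb := f.range with hXb
  set Tb := (S : Subgroup G).map f with hTb
  have hTX : Tb ≤ Xb := map_le_range _ _
  have hTbp : IsPGroup p Tb := S.2.map _
  have hXr : Xb = (Offender.toModel V').range := by
    rw [hXb, hf, MonoidHom.range_comp, MonoidHom.range_eq_top.2 hπs, ← MonoidHom.range_eq_map]
  have hfx : ∀ B : Subgroup G, fx Vb (B.map f) =
      ((V' ⊓ centralizer ((B.map π : Subgroup _) : Set (G ⧸ Z))).subgroupOf V').map (Offender.ofV V') := by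
    intro B
    rw [fx, hVb, hf, ← Subgroup.map_map]
    exact Offender.inf_centralizer_map_toModel V' _
  -- no fixed points
  have hnofix : fx Vb Xb = ⊥ := by
    rw [hXb, MonoidHom.range_eq_map, hfx, map_top_of_surjective π hπs, eq_bot_iff]
    rintro _ ⟨⟨w, hw⟩, hw', rfl⟩
    obtain ⟨v, hv, rfl⟩ := hw
    have h1 : v ∈ Z := mem_inf_centralizer_pResidual hVp hv fun x _ => by
      have h2 := (mem_subgroupOf.1 hw').2 (π x) (mem_top _)
      show x * v * x⁻¹ * v⁻¹ ∈ Z
      rw [← hkerπ, MonoidHom.mem_ker, map_mul, map_mul, map_mul, map_inv, map_inv, h2,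
        mul_inv_cancel_right, mul_inv_cancel]
    rw [mem_bot, ← map_one (Offender.ofV V')]
    exact congrArg _ (Subtype.ext ((QuotientGroup.eq_one_iff v).2 h1))
  have hVbne : Vb ≠ ⊥ := by
    intro e
    refine hAC fun a ha => hkerC.le ((hmemker a).2 fun v hv => ?_)
    have h1 : Offender.ofV V' ⟨π v, v, hv, rfl⟩ ∈ (⊥ : Subgroup (Offender.Model V')) := e.le ⟨_, rfl⟩
    rw [mem_bot, map_eq_one_iff _ (Offender.ofV_injective V')] at h1
    have hvZ : v ∈ Z := (QuotientGroup.eq_one_iff v).1 (congrArg Subtype.val h1)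
    exact mul_mem (hZn.conj_mem v hvZ a) (inv_mem hvZ)
  have hcfg : Cfg p Vb Xb Tb (M.map f) :=
    { hV := Offender.isElementaryAbelian_modelV V' hV'e
      hXV := hXr ▸ Offender.range_toModel_le_normalizer V'
      hTX := hTX
      hT := hTbp
      hTi := by
        rw [hTb, hXb, MonoidHom.range_eq_map, relIndex_map_map, top_sup_eq, relIndex_top_right]
        exact fun hd => S.not_dvd_index (hd.trans (index_dvd_of_le le_sup_left))
      hMX := lt_of_le_of_ne (map_le_range _ _) fun e => hne (by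
        rw [hXb, MonoidHom.range_eq_map] at e
        have := congrArg (Subgroup.comap f) e
        rwa [comap_map_eq, comap_map_eq, hkerC, top_sup_eq, sup_eq_left.mpr hCM] at this)
      hTM := map_mono hSM
      huniq := fun H hH hTH => by
        have h1 : H.comap f ≠ ⊤ := fun e => hH.ne (by
          rw [← map_comap_eq_self hH.le, e, ← MonoidHom.range_eq_map])
        rw [← map_comap_eq_self hH.le]
        exact map_mono (huniq _ (fun t ht => hTH ⟨t, ht, rfl⟩) h1)
      moved := fun hle => by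
        refine LocalStructure.inf_centralizer_ne_bot
          (PGroup.isPGroup_of_elementaryAbelian (Offender.isElementaryAbelian_modelV V' hV'e)) hVbne hTbp
          (hTX.trans (hXr ▸ Offender.range_toModel_le_normalizer V')) ?_
        exact le_bot_iff.1 ((le_inf inf_le_left (le_centralizer_iff.1 hle) : fx Vb Tb ≤ fx Vb Xb).trans hnofix.le)
      pker := fun J hJ hJp hJn => by
        haveI hKn : (J.comap f).Normal := ⟨fun k hk g => by
          show f (g * k * g⁻¹) ∈ J
          rw [map_mul, map_mul, map_inv]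
          exact (mem_normalizer_iff.mp (hJn ⟨g, rfl⟩) _).mp hk⟩
        have hKC : J.comap f ≤ C := le_of_isPGroup_quotient hne hSM huniq hQV hCM
          (hkerC ▸ ker_le_comap f J) (by
            rintro ⟨y, x, hx, rfl⟩
            obtain ⟨k, hk⟩ := hJp ⟨f x, hx⟩
            refine ⟨k, Subtype.ext ?_⟩
            show QuotientGroup.mk' C x ^ p ^ k = 1
            rw [← map_pow]
            refine (QuotientGroup.eq_one_iff _).2 (hkerC.le ?_)
            rw [MonoidHom.mem_ker, map_pow]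
            exact congrArg Subtype.val hk)
        intro j hj
        obtain ⟨x, rfl⟩ := hJ hj
        rw [MonoidHom.mem_ker.1 (hkerC.ge (hKC hj))]
        exact one_mem _ }
  have hfaith : Xb ⊓ centralizer (Vb : Set _) = ⊥ := hXr ▸ Offender.range_toModel_inf_centralizer V'
  set Ab := A.map f with hAb
  have hAbX : Ab ≤ Xb := map_le_range _ _
  have hAbT : Ab ≤ Tb := map_mono hA.1
  have hAbe : Cfsg.IsElementaryAbelian p Ab := by
    refine ⟨PGroup.isMulCommutative_map hA.2.1 f, ?_⟩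
    rintro _ ⟨a, ha, rfl⟩
    rw [← map_pow]
    refine MonoidHom.mem_ker.1 (hkerC.ge fun v hv => ?_)
    set z := ⁅v, a⁆ with hz
    have hzV : z ∈ V := commutator_le_left V _ (commutator_mem_commutator hv (mem_zpowers a))
    have hza : a * z = z * a := (commutatorElement_eq_one_iff_mul_comm.1 (hquad v hv a ha a ha)).symm
    have hz1 : a * v * a⁻¹ = z⁻¹ * v := by simp [hz, commutatorElement_def, mul_assoc]
    have hm : ∀ m : ℕ, a ^ m * v * (a ^ m)⁻¹ = (z⁻¹) ^ m * v := by
      intro m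
      induction m with
      | zero => simp
      | succ m ih =>
        have hcz : Commute a ((z⁻¹) ^ m) := ((show Commute a z from hza).inv_right).pow_right m
        calc a ^ (m + 1) * v * (a ^ (m + 1))⁻¹ = a * (a ^ m * v * (a ^ m)⁻¹) * a⁻¹ := by
              rw [pow_succ']; group
          _ = (z⁻¹) ^ m * (a * v * a⁻¹) := by rw [ih, ← mul_assoc a, hcz.eq]; group
          _ = _ := by rw [hz1, pow_succ, mul_assoc]
    have := hm p
    rw [inv_pow, hVe.2 z hzV, inv_one, one_mul, mul_inv_eq_iff_eq_mul] at this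
    exact this.symm
  have hAb0 : Ab ≠ ⊥ := fun e => hAC (((Subgroup.map_eq_bot_iff A).1 e).trans hkerC.le)
  have hoff : Nat.card Vb ≤ Nat.card Ab * Nat.card (fx Vb Ab) := by
    set A₀ := A ⊓ C with hA₀
    have hcomm : V ≤ centralizer (A₀ : Set G) := le_centralizer_iff.1 inf_le_right
    have hA₀ab : IsMulCommutative ↥A₀ := PGroup.isMulCommutative_of_forall fun x hx y hy =>
      PGroup.mul_comm_of_isMulCommutative hA.2.1 hx.1 hy.1
    have habel : IsMulCommutative ↥(V ⊔ A₀) := by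
      refine PGroup.isMulCommutative_of_forall ?_
      have h1 : V ⊔ A₀ ≤ centralizer ((V : Set G) ∪ A₀) := by
        refine sup_le (fun x hx => ?_) (fun x hx => ?_)
        · rintro y (hy | hy)
          · exact PGroup.mul_comm_of_isMulCommutative hVe.1 hy hx
          · exact hcomm hx y hy
        · rintro y (hy | hy)
          · exact hx.2 y hy
          · exact PGroup.mul_comm_of_isMulCommutative hA₀ab hy hx
      intro a ha b hb
      have h2 : V ⊔ A₀ ≤ centralizer ({a} : Set G) := sup_le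
        (fun x hx => mem_centralizer_singleton_iff.2 (h1 ha x (Or.inl hx)))
        (fun x hx => mem_centralizer_singleton_iff.2 (h1 ha x (Or.inr hx)))
      exact (mem_centralizer_singleton_iff.1 (h2 hb)).symm
    have hle := hA.2.2 _ (sup_le (hVQ.trans (PCore.pCore_le_sylow S)) (inf_le_left.trans hA.1)) habel
    -- `|V| |A₀| ≤ |A| |V ∩ A|`
    have hcA : Nat.card ↥Ab * Nat.card ↥A₀ = Nat.card ↥A := by
      rw [hA₀, ← hkerC]; exact card_map_mul f A
    have hprod := Coprime.ncard_mul_mul_card_inf V A₀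
    have hset : Nat.card ((V : Set G) * (A₀ : Set G) : Set G) = Nat.card ↥(V ⊔ A₀) := by
      rw [← Subgroup.coe_mul_of_left_le_normalizer_right V A₀ (hcomm.trans (centralizer_le_normalizer _))]
      rfl
    rw [hset] at hprod
    set P := V ⊓ centralizer (A : Set G) with hP
    have hVA : V ⊓ A₀ ≤ P := fun x hx =>
      ⟨hx.1, fun a ha => PGroup.mul_comm_of_isMulCommutative hA.2.1 ha hx.2.1⟩
    have h1 : Nat.card ↥V * Nat.card ↥A₀ ≤ Nat.card ↥A * Nat.card ↥P := by
      rw [← hprod]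
      exact Nat.mul_le_mul hle (card_le_of_le hVA)
    rw [← hcA, mul_right_comm] at h1
    have h2 : Nat.card ↥V ≤ Nat.card ↥Ab * Nat.card ↥P := Nat.le_of_mul_le_mul_right h1 Nat.card_pos
    -- pass to the quotient by `Z`
    have h3 : Nat.card Vb * Nat.card ↥Z = Nat.card ↥V := by
      have := card_map_mul π V
      rwa [hkerπ, inf_eq_right.2 (inf_le_left : Z ≤ V), ← hV', ← Offender.card_modelV V'] at this
    have h4 : Nat.card ↥P ≤ Nat.card (fx Vb Ab) * Nat.card ↥Z := by
      have h5 := card_map_mul π P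
      rw [hkerπ] at h5
      rw [← h5]
      refine Nat.mul_le_mul ?_ (card_le_of_le inf_le_right)
      rw [hAb, hfx, card_map_of_injective (Offender.ofV_injective V'),
        Coprime.card_subgroupOf inf_le_left]
      refine card_le_of_le (le_inf (map_mono inf_le_left) ?_)
      rintro _ ⟨x, hx, rfl⟩ _ ⟨a, ha, rfl⟩
      rw [← map_mul, ← map_mul, hx.2 a ha]
    refine Nat.le_of_mul_le_mul_right ?_ (Nat.card_pos (α := ↥Z))
    rw [h3, mul_assoc]
    exact h2.trans (Nat.mul_le_mul_left _ h4)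
  obtain ⟨d⟩ := exists_gDecomp (hasDecomp p) hcfg hfaith hAbX hAbe hAb0 hoff
  -- the components fix nothing
  have hKfix : fx Vb (⨆ i, d.E i) = ⊥ := by
    by_contra hcon
    have hn : Xb ≤ normalizer ((fx Vb (⨆ i, d.E i) : Subgroup (Offender.Model V')) : Set (Offender.Model V')) :=
      fun x hx => mem_normalizer_of_cj_le (by
        rw [cj_fx (hcfg.hXV hx), cj_eq_of_mem_normalizer (d.normal hx)])
    have h1 := LocalStructure.inf_centralizer_ne_bot
      ((PGroup.isPGroup_of_elementaryAbelian hcfg.hV).to_le inf_le_left) hcon hTbp (hTX.trans hn)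
    refine h1 (le_bot_iff.1 (le_trans ?_ hnofix.le))
    refine le_inf (inf_le_left.trans inf_le_left) ?_
    exact le_centralizer_iff.1 (d.sup_T.ge.trans (sup_le
      (le_centralizer_iff.1 (inf_le_left.trans inf_le_right)) (le_centralizer_iff.1 inf_le_right)))
  -- the components lie in the image of the normal closure of `A`
  set N := (normalClosure (A : Set G)).map f with hN
  have hKN : (⨆ i, d.E i) ≤ N := by
    obtain ⟨B, hBA, hB⟩ := exists_crit_le hAbX hAbe hfaith hAb0 hoff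
    refine d.core N (map_le_range _ _) ?_ B (hBA.trans hAbT) (hBA.trans (map_mono le_normalClosure)) hB
    rintro _ ⟨g, rfl⟩
    exact le_normalizer_map f ⟨g, (normalizer_eq_top (H := normalClosure (A : Set G))).ge (mem_top g), rfl⟩
  obtain ⟨Ib, hIb, Jb, hJb, hIJ, hJJ⟩ := exists_inversion (by omega) hcfg.hV.1 hcfg.hXV d hKfix
  obtain ⟨I, hI, hIe⟩ := hKN hIb
  obtain ⟨J, hJ, hJe⟩ := hKN hJb
  have hcen : ∀ t : G, (∀ w ∈ Vb, f t * w * (f t)⁻¹ = w⁻¹) → ∀ x : G, ⁅t, x⁆ ∈ C := by
    intro t ht x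
    rw [← hkerC, MonoidHom.mem_ker, ← mem_bot, ← hfaith]
    refine ⟨⟨⁅t, x⁆, rfl⟩, fun w hw => ?_⟩
    have hwx : (f x)⁻¹ * w * f x ∈ Vb := by
      simpa using (mem_normalizer_iff.1 (inv_mem (hcfg.hXV ⟨x, rfl⟩)) w).1 hw
    have e1 : f x⁻¹ = (f x)⁻¹ := map_inv f x
    have hwt : f t * w * (f t)⁻¹ = w⁻¹ := ht w hw
    have hti : (f t)⁻¹ * w * f t = w⁻¹ := by
      have h1 := ht w⁻¹ (inv_mem hw)
      rw [inv_inv] at h1
      calc (f t)⁻¹ * w * f t = (f t)⁻¹ * (f t * w⁻¹ * (f t)⁻¹) * f t := by rw [h1]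
        _ = w⁻¹ := by group
    have hfix : f ⁅t, x⁆ * w * (f ⁅t, x⁆)⁻¹ = w := by
      rw [map_commutatorElement, commutatorElement_def]
      have h2 : (f t)⁻¹ * ((f x)⁻¹ * w * f x) * f t = ((f x)⁻¹ * w * f x)⁻¹ := by
        have h1 := ht ((f x)⁻¹ * w * f x)⁻¹ (inv_mem hwx)
        rw [inv_inv] at h1
        calc (f t)⁻¹ * ((f x)⁻¹ * w * f x) * f t
            = (f t)⁻¹ * (f t * ((f x)⁻¹ * w * f x)⁻¹ * (f t)⁻¹) * f t := by rw [h1]
          _ = _ := by group
      calc f t * f x * (f t)⁻¹ * (f x)⁻¹ * w * (f t * f x * (f t)⁻¹ * (f x)⁻¹)⁻¹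
          = f t * (f x * ((f t)⁻¹ * ((f x)⁻¹ * w * f x) * f t) * (f x)⁻¹) * (f t)⁻¹ := by group
        _ = f t * w⁻¹ * (f t)⁻¹ := by rw [h2]; group
        _ = w := by rw [ht w⁻¹ (inv_mem hw), inv_inv]
    exact (mul_inv_eq_iff_eq_mul.1 hfix).symm
  refine ⟨I, hI, J, hJ, fun g a _ => ⟨hcen _ (fun w hw => ?_) _, hcen _ (fun w hw => ?_) _⟩, fun v hv hfix => ?_⟩
  · rw [map_commutatorElement, hIe, hJe]; exact hIJ w hw
  · rw [map_mul, hJe]; exact hJJ w hw
  -- what is fixed lies in `Z`, which `A` centralizes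
  have hvZ : v ∈ Z := by
    have h1 := hIJ (Offender.ofV V' ⟨π v, v, hv, rfl⟩) ⟨_, rfl⟩
    rw [← hIe, ← hJe, ← map_commutatorElement, hf, MonoidHom.comp_apply, Offender.toModel_conj] at h1
    have h2 := congrArg Subtype.val (Offender.ofV_injective V' (h1.trans (map_inv _ _).symm))
    simp only [Subgroup.coe_inv, ← map_inv, ← map_mul] at h2
    rw [hfix, map_inv] at h2
    have h3 : orderOf (π v) ∣ Nat.gcd 2 p := Nat.dvd_gcd
      (orderOf_dvd_of_pow_eq_one (by rw [pow_two]; exact mul_eq_one_iff_eq_inv.2 h2))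
      (orderOf_dvd_of_pow_eq_one (by rw [← map_pow, hVe.2 v hv, map_one]))
    rw [Nat.coprime_iff_gcd_eq_one.1 ((Nat.coprime_primes Nat.prime_two Fact.out).2 (by omega))] at h3
    exact (QuotientGroup.eq_one_iff v).1 (orderOf_eq_one_iff.1 (Nat.dvd_one.1 h3))
  intro a ha
  have hsub : closure {x | x ∈ Xb ∧ (orderOf x).Coprime p} ≤ (Cfsg.pResidual p G).map f := by
    rw [closure_le]
    rintro y ⟨⟨x, rfl⟩, hy⟩
    obtain ⟨x₁, x₂, hxe, hx₁, hx₂, m, hm⟩ := ConjFun.exists_decomp (p := p) x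
    refine ⟨x₂, subset_closure hx₂, ?_⟩
    have h1 : f x₁ = 1 := by
      obtain ⟨k, hk⟩ := hx₁ ⟨x₁, mem_zpowers x₁⟩
      refine orderOf_eq_one_iff.1 (Nat.eq_one_of_dvd_coprimes (hy.pow_right k) ?_ ?_)
      · rw [hm, map_pow]; exact orderOf_pow_dvd m
      · refine orderOf_dvd_of_pow_eq_one ?_
        rw [← map_pow, show x₁ ^ p ^ k = 1 from congrArg Subtype.val hk, map_one]
    rw [hxe, map_mul, h1, one_mul]
  obtain ⟨x, hx, hxe⟩ := hsub (iSup_le_closure hp d (d.offender Ab hAbT hAbe hoff ⟨a, ha, rfl⟩))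
  have hxa : x⁻¹ * a ∈ C := by
    rw [← hkerC, MonoidHom.mem_ker, map_mul, map_inv, hxe, inv_mul_cancel]
  have hxc : x * v = v * x := hvZ.2 x hx
  have hac : v * (x⁻¹ * a) = x⁻¹ * a * v := hxa v hv
  calc a * v = x * (x⁻¹ * a * v) := by group
    _ = x * v * (x⁻¹ * a) := by rw [← hac]; group
    _ = v * a := by rw [hxc]; group

end Cfsg.Agent.JTransfer
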