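import Cfsg.Agent.Lib.JTransfer.Replace
import Cfsg.Agent.Lib.ConjFun.Engel

/-!
# A chief factor with an Engel element, from a pairing with two others

* `exists_top_factor`: below a normal subgroup not inside `D` there is a chief factor `U / V` with `V ≤ D`
  containing all proper normal subgroups of `U`;
* `engel_of_pairing`: if `g` has degree `i` on `X / X'` and `j` on `Y / Y'`, and commutation pairs
  `X / X'` with `U` nontrivially into `Y / Y'`, then `g` has degree `i + j - 1` on `U / V`;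
* `comm_self_le_centralizer`: a `p`-group centralizing every abelian normal subgroup of `G` inside it is of
  class at most two.
-/

set_option autoImplicit false
set_option linter.style.haveILetI false

namespace Cfsg.Agent.JTransfer

open Subgroup
open scoped commutatorElement

universe u

variable {G : Type u} [Group G]

theorem comm_mem_of_normal {N : Subgroup G} [hN : N.Normal] {v : G} (a : G) (hv : v ∈ N) : ⁅v, a⁆ ∈ N := by
  rw [show ⁅v, a⁆ = v * (a * v⁻¹ * a⁻¹) by simp [commutatorElement_def, mul_assoc]]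
  exact mul_mem hv (hN.conj_mem _ (inv_mem hv) a)

theorem iterCommutator_le_self {U K : Subgroup G} [U.Normal] : ∀ k : ℕ, Cfsg.iterCommutator U K k ≤ U
  | 0 => le_rfl
  | k + 1 => (commutator_mono (iterCommutator_le_self k) le_rfl).trans (commutator_le_left U K)

theorem iterCommutator_mono_right {U K L : Subgroup G} (h : K ≤ L) :
    ∀ k : ℕ, Cfsg.iterCommutator U K k ≤ Cfsg.iterCommutator U L k
  | 0 => le_rfl
  | k + 1 => commutator_mono (iterCommutator_mono_right h k) h

theorem comm_self_eq_bot {N : Subgroup G} (hN : IsMulCommutative ↥N) : ⁅N, N⁆ = ⊥ :=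
  commutator_eq_bot_iff_le_centralizer.2 (PGroup.le_centralizer_of_isMulCommutative hN)

theorem exists_top_factor [Finite G] {P D : Subgroup G} (hP : P.Normal) (h : ¬ P ≤ D) :
    ∃ U V : Subgroup G, Cfsg.IsChiefFactor U V ∧ U ≤ P ∧ V ≤ D ∧ ¬ U ≤ D ∧
      ∀ N : Subgroup G, N.Normal → N ≤ U → N ≠ U → N ≤ V := by
  obtain ⟨U, ⟨hU, hUP, hUD⟩, hmin⟩ :=
    (Set.toFinite {U : Subgroup G | U.Normal ∧ U ≤ P ∧ ¬ U ≤ D}).exists_minimal ⟨P, hP, le_rfl, h⟩
  have hsmall : ∀ N : Subgroup G, N.Normal → N ≤ U → N ≠ U → N ≤ D := fun N hN hNU hne => by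
    by_contra hND
    exact hne (le_antisymm hNU (hmin ⟨hN, hNU.trans hUP, hND⟩ hNU))
  have hU0 : U ≠ ⊥ := fun e => hUD (e ▸ bot_le)
  obtain ⟨V, ⟨hV, hVU⟩, hmax⟩ :=
    (Set.toFinite {V : Subgroup G | V.Normal ∧ V < U}).exists_maximal ⟨⊥, inferInstance, bot_lt_iff_ne_bot.2 hU0⟩
  haveI := hV
  have htop : ∀ N : Subgroup G, N.Normal → N ≤ U → N ≠ U → N ≤ V := fun N hN hNU hne => by
    haveI := hN
    have h1 : N ⊔ V ≠ U := fun e => hUD (e ▸ sup_le (hsmall N hN hNU hne) (hsmall V hV hVU.le hVU.ne))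
    exact le_sup_left.trans (hmax ⟨inferInstance, lt_of_le_of_ne (sup_le hNU hVU.le) h1⟩ le_sup_right)
  refine ⟨U, V, ⟨hVU, hU, hV, fun N hN hVN hNU => ?_⟩, hUP, hsmall V hV hVU.le hVU.ne, hUD, htop⟩
  rcases eq_or_ne N U with e | e
  · exact Or.inr e
  · exact Or.inl (le_antisymm (htop N hN hNU e) hVN)

variable [Finite G] {p : ℕ}

theorem engel_of_pairing {U V X X' Y Y' : Subgroup G} [U.Normal] [V.Normal] [X.Normal] [Y.Normal]
    (hVU : V ≤ U) (hUU : ⁅U, U⁆ ≤ V) (htop : ∀ N : Subgroup G, N.Normal → N ≤ U → N ≠ U → N ≤ V)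
    (hY' : Y'.Normal) (hne : ¬ ⁅X, U⁆ ≤ Y') (hYY : ⁅Y, Y⁆ ≤ Y') (hYU : ⁅Y, U⁆ ≤ Y') (hYX : ⁅Y, X⁆ ≤ Y')
    (hUX : ∀ a ∈ U, ∀ x ∈ X, ⁅x, a⁆ ∈ Y) (hUX' : ∀ a ∈ U, ∀ x ∈ X', ⁅x, a⁆ ∈ Y') (g : G) {i j k : ℕ}
    (hk : i + j ≤ k + 1) (hXi : Cfsg.iterCommutator X (zpowers g) i ≤ X')
    (hYj : Cfsg.iterCommutator Y (zpowers g) j ≤ Y') :
    Cfsg.iterCommutator U (zpowers g) k ≤ V := by
  haveI := hY'
  refine ConjFun.iterCommutator_le_of_iterate hVU hUU g k fun a ha => ?_
  haveI := ConjFun.kerOn_normal (inferInstance : X.Normal) hY'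
  refine htop (ConjFun.kerOn X Y' hY' ⊓ U) inferInstance inf_le_right ?_
    ⟨ConjFun.iterate_mem_kerOn hYY hYU hYX hUX hUX' g hk hXi hYj ha,
      iterCommutator_le_self k (ConjFun.iterate_mem_iterCommutator k ha)⟩
  exact fun e => hne (ConjFun.le_kerOn_iff.1 (e ▸ inf_le_left))

variable [Fact p.Prime]

theorem iterCommutator_eq_bot {H : Subgroup G} [H.Normal] (hH : IsPGroup p ↥H) :
    ∃ n, Cfsg.iterCommutator H H n = ⊥ := by
  by_contra hc
  push_neg at hc
  have hn : ∀ k, (Cfsg.iterCommutator H H k).Normal := by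
    intro k
    induction k with
    | zero => exact (inferInstance : H.Normal)
    | succ k ih => exact @commutator_normal _ _ _ _ ih inferInstance
  have hd : ∀ k, Nat.card ↥(Cfsg.iterCommutator H H k) + k ≤ Nat.card ↥H := by
    intro k
    induction k with
    | zero => exact le_rfl
    | succ k ih =>
      haveI := hn k
      obtain ⟨V, hV⟩ := ConjFun.exists_chief_top (hc k)
      have h1 : Cfsg.iterCommutator H H (k + 1) < Cfsg.iterCommutator H H k :=
        lt_of_le_of_lt (ConjFun.commutator_le_of_isChiefFactor hV (hH.to_le (iterCommutator_le_self k)) hH) hV.1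
      have h2 : Nat.card ↥(Cfsg.iterCommutator H H (k + 1)) < Nat.card ↥(Cfsg.iterCommutator H H k) :=
        lt_of_le_of_ne (card_le_of_le h1.le) fun e => h1.ne (eq_of_le_of_card_ge h1.le e.ge)
      omega
  have := hd (Nat.card ↥H)
  have : 0 < Nat.card ↥(Cfsg.iterCommutator H H (Nat.card ↥H)) := Nat.card_pos
  omega

theorem comm_self_le_centralizer {H : Subgroup G} [H.Normal] (hH : IsPGroup p ↥H)
    (hab : ∀ N : Subgroup G, N.Normal → N ≤ H → IsMulCommutative ↥N → H ≤ centralizer (N : Set G)) :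
    ⁅H, H⁆ ≤ centralizer (H : Set G) := by
  obtain ⟨n, hn⟩ := iterCommutator_eq_bot hH
  have hdown : ∀ k, Cfsg.iterCommutator H H (k + 2) = ⊥ → Cfsg.iterCommutator H H 2 = ⊥ := by
    intro k
    induction k with
    | zero => exact id
    | succ k ih =>
      intro hk
      refine ih ?_
      set L := Cfsg.iterCommutator H H (k + 1) with hL
      have hLn : ∀ j, (Cfsg.iterCommutator H H j).Normal := by
        intro j
        induction j with
        | zero => exact (inferInstance : H.Normal)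
        | succ j ihj => exact @commutator_normal _ _ _ _ ihj inferInstance
      haveI := hLn (k + 1)
      have h1 : ⁅⁅L, H⁆, H⁆ = ⊥ := hk
      have h2 : ⁅⁅H, H⁆, L⁆ = ⊥ := commutator_commutator_eq_bot_of_rotate
        (by rw [commutator_comm H L]; exact h1) h1
      have hLH : L ≤ ⁅H, H⁆ := commutator_mono (iterCommutator_le_self k) le_rfl
      have hLab : IsMulCommutative ↥L := PGroup.isMulCommutative_of_forall fun x hx y hy => by
        have h3 := commutator_eq_bot_iff_le_centralizer.1 h2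
        exact (h3 (hLH hx) y hy).symm
      have h4 : H ≤ centralizer (L : Set G) := hab L inferInstance (iterCommutator_le_self (k + 1)) hLab
      exact commutator_eq_bot_iff_le_centralizer.2 (le_centralizer_iff.1 h4)
  have h2 : Cfsg.iterCommutator H H 2 = ⊥ := by
    rcases Nat.lt_or_ge n 2 with h | h
    · refine le_bot_iff.1 ?_
      rcases (show n = 0 ∨ n = 1 by omega) with e | e <;> subst e
      · exact (iterCommutator_le_self 2).trans hn.le
      · exact (commutator_mono hn.le le_rfl).trans (commutator_bot_left H).le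
    · obtain ⟨k, rfl⟩ := Nat.exists_eq_add_of_le' h
      exact hdown k hn
  exact commutator_eq_bot_iff_le_centralizer.1 h2

end Cfsg.Agent.JTransfer
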