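import Cfsg.Agent.Lib.PMinFF.Assembly
import Cfsg.Agent.Lib.PSL2.Basic
import Cfsg.Agent.Lib.PMinPush.Shapes
import Cfsg.Agent.Lib.Coprime.Commutator

/-!
# An inversion in a product of components `SL₂`

`exists_inversion`: for a decomposition without fixed points (`p ≥ 5`) there are `I`, `J` in the product of
the components such that `⁅I, J⁆` and `J * J` invert the module; the components are generated by
elements of order prime to `p`.
-/

set_option autoImplicit false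

namespace Cfsg.Agent.JTransfer

open Subgroup PMinFF Subnormal
open scoped commutatorElement Matrix

universe u

variable {H : Type u} [Group H] [Finite H] {p : ℕ} [Fact p.Prime]

theorem exists_ij (hp : p ≠ 2) (F : Type) [Field F] [Fintype F] :
    ∃ i j : Matrix.SpecialLinearGroup (Fin 2) F,
      (((⁅i, j⁆ : Matrix.SpecialLinearGroup (Fin 2) F) : Matrix (Fin 2) (Fin 2) F) = -1) ∧
        (((j * j : Matrix.SpecialLinearGroup (Fin 2) F) : Matrix (Fin 2) (Fin 2) F) = -1) := by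
  obtain ⟨q, hq⟩ := CharP.exists F
  haveI := hq
  haveI : Fact q.Prime := ⟨CharP.char_is_prime F q⟩
  obtain ⟨a, b, hab⟩ := CharP.sq_add_sq F q (-1)
  have hxy : ((a : F)) ^ 2 + (b : F) ^ 2 = -1 := by exact_mod_cast hab
  let i : Matrix.SpecialLinearGroup (Fin 2) F := ⟨!![0, 1; -1, 0], by simp [Matrix.det_fin_two]⟩
  let j : Matrix.SpecialLinearGroup (Fin 2) F := ⟨!![(a : F), (b : F); (b : F), -(a : F)], by
    rw [Matrix.det_fin_two]
    simp only [Matrix.of_apply, Matrix.cons_val', Matrix.cons_val_zero, Matrix.cons_val_one,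
      Matrix.cons_val_fin_one]
    linear_combination (-1 : F) * hxy⟩
  have hjj : ((j * j : Matrix.SpecialLinearGroup (Fin 2) F) : Matrix (Fin 2) (Fin 2) F) = -1 := by
    rw [Matrix.SpecialLinearGroup.coe_mul]
    ext r s
    fin_cases r <;> fin_cases s <;> simp [j, Matrix.mul_apply, Fin.sum_univ_two] <;>
      first
      | linear_combination hxy
      | ring
  refine ⟨i, j, ?_, hjj⟩
  have hanti : ((i * j : Matrix.SpecialLinearGroup (Fin 2) F) : Matrix (Fin 2) (Fin 2) F) =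
      -((j * i : Matrix.SpecialLinearGroup (Fin 2) F) : Matrix (Fin 2) (Fin 2) F) := by
    rw [Matrix.SpecialLinearGroup.coe_mul, Matrix.SpecialLinearGroup.coe_mul]
    ext r s
    fin_cases r <;> fin_cases s <;> simp [i, j, Matrix.mul_apply, Fin.sum_univ_two]
  have e : ⁅i, j⁆ = (i * j) * (j * i)⁻¹ := by simp [commutatorElement_def, mul_assoc]
  rw [e, Matrix.SpecialLinearGroup.coe_mul, hanti, neg_mul, ← Matrix.SpecialLinearGroup.coe_mul,
    mul_inv_cancel, Matrix.SpecialLinearGroup.coe_one]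

/-- Elements acting as in the natural module. -/
theorem exists_local {V E : Subgroup H} (hp : p ≠ 2) (h : GShape p V E) :
    (∃ n : ℕ, 1 ≤ n ∧ ∃ (F : Type) (_ : Field F) (_ : Fintype F), Fintype.card F = p ^ n ∧
      Nonempty (↥E ≃* Matrix.SpecialLinearGroup (Fin 2) F)) ∧
    (⁅V, E⁆ ⊓ centralizer (E : Set H) = ⊥ → ∃ i ∈ E, ∃ j ∈ E,
      (∀ u ∈ ⁅V, E⁆, ⁅i, j⁆ * u * ⁅i, j⁆⁻¹ = u⁻¹) ∧ ∀ u ∈ ⁅V, E⁆, (j * j) * u * (j * j)⁻¹ = u⁻¹) := by
  obtain ⟨n, hn, h | h⟩ := h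
  swap
  · exact absurd h.1 hp
  obtain ⟨F, _, _, hF, hiso, hact⟩ := h
  refine ⟨⟨n, hn, F, inferInstance, inferInstance, hF, hiso⟩, fun hfix => ?_⟩
  obtain ⟨hEU, -, ρ, ψ, hρ, -, hker, heq⟩ := hact
  obtain ⟨i₀, j₀, hij, hjj⟩ := exists_ij hp F
  obtain ⟨i, hi⟩ := (hρ.ge (mem_top i₀) : i₀ ∈ ρ.range)
  obtain ⟨j, hj⟩ := (hρ.ge (mem_top j₀) : j₀ ∈ ρ.range)
  have hinv : ∀ e : ↥E, ((ρ e : Matrix.SpecialLinearGroup (Fin 2) F) : Matrix (Fin 2) (Fin 2) F) = -1 →
      ∀ u ∈ ⁅V, E⁆, (e : H) * u * (e : H)⁻¹ = u⁻¹ := by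
    intro e he u hu
    obtain ⟨w, hw, hw'⟩ := heq e ⟨u, hu⟩
    rw [he, Matrix.neg_mulVec, Matrix.one_mulVec, ← toAdd_inv, ← map_inv] at hw'
    have h1 := (hker ((⟨u, hu⟩ : ↥⁅V, E⁆) * w)).1 (by
      rw [map_mul, Multiplicative.toAdd.injective hw', ← map_mul, mul_inv_cancel, map_one])
    rw [hfix, mem_bot, Subgroup.coe_mul] at h1
    rw [← hw]
    exact eq_inv_of_mul_eq_one_right h1
  refine ⟨i, i.2, j, j.2, fun u hu => ?_, fun u hu => ?_⟩
  · exact hinv ⁅i, j⁆ (by rw [map_commutatorElement, hi, hj, hij]) u hu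
  · exact hinv (j * j) (by rw [map_mul, hj, hjj]) u hu

variable {V X T : Subgroup H}

theorem exists_inversion (hp : p ≠ 2) (hVab : IsMulCommutative ↥V) (hXV : X ≤ normalizer (V : Set H))
    (d : GDecomp p V X T) (hfix : fx V (⨆ i, d.E i) = ⊥) :
    ∃ I ∈ ⨆ i, d.E i, ∃ J ∈ ⨆ i, d.E i, (∀ v ∈ V, ⁅I, J⁆ * v * ⁅I, J⁆⁻¹ = v⁻¹) ∧
      ∀ v ∈ V, (J * J) * v * (J * J)⁻¹ = v⁻¹ := by
  classical
  have hU : ∀ k, ⁅V, d.E k⁆ ⊓ centralizer (d.E k : Set H) = ⊥ := by
    intro k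
    refine le_bot_iff.1 (le_trans ?_ hfix.le)
    refine le_inf (inf_le_left.trans ?_) ?_
    · exact Coprime.commutator_le_left_of_le_normalizer ((d.le k).trans hXV)
    · refine le_centralizer_iff.1 (iSup_le fun j => le_centralizer_iff.1 ?_)
      by_cases hjk : k = j
      · subst hjk; exact inf_le_right
      · exact inf_le_left.trans (commutator_eq_bot_iff_le_centralizer.1 (d.mixed k j hjk))
  have hloc := fun k => (exists_local hp (d.shape k)).2 (hU k)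
  choose i hi j hj hij hjj using hloc
  have hnorm : ∀ k m, d.E m ≤ normalizer ((⁅V, d.E k⁆ : Subgroup H) : Set H) := by
    intro k m
    by_cases hkm : k = m
    · subst hkm; exact PMinFF.le_normalizer_commutator ((d.le k).trans hXV)
    · exact (le_centralizer_iff.1 (commutator_eq_bot_iff_le_centralizer.1 (d.mixed k m hkm))).trans
        (centralizer_le_normalizer _)
  -- products
  have hprod : ∀ (f : Fin d.r → H), (∀ k, f k ∈ d.E k) → ∀ s : Finset (Fin d.r),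
      ∃ P ∈ ⨆ m, d.E m, ∀ k, ∀ u ∈ ⁅V, d.E k⁆,
        (k ∈ s → P * u * P⁻¹ = f k * u * (f k)⁻¹) ∧ (k ∉ s → P * u * P⁻¹ = u) := by
    intro f hf s
    induction s using Finset.induction_on with
    | empty => exact ⟨1, one_mem _, fun k u _ => ⟨fun h => absurd h (Finset.notMem_empty k), fun _ => by simp⟩⟩
    | @insert m s hm ih =>
      obtain ⟨P, hP, hPk⟩ := ih
      refine ⟨f m * P, mul_mem (le_iSup d.E m (hf m)) hP, fun k u hu => ?_⟩
      obtain ⟨h1, h2⟩ := hPk k u hu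
      have e : f m * P * u * (f m * P)⁻¹ = f m * (P * u * P⁻¹) * (f m)⁻¹ := by group
      rw [e]
      have hfix' : k ≠ m → ∀ w ∈ ⁅V, d.E k⁆, f m * w * (f m)⁻¹ = w := fun hkm w hw => by
        rw [← commutator_eq_bot_iff_le_centralizer.1 (d.mixed k m hkm) hw (f m) (hf m) |>.symm,
          mul_inv_eq_iff_eq_mul]
      refine ⟨fun hk => ?_, fun hk => ?_⟩
      · rcases Finset.mem_insert.1 hk with rfl | hks
        · rw [h2 hm]
        · rw [h1 hks]
          exact hfix' (fun e => hm (e ▸ hks)) _ ((mem_normalizer_iff.1 (hnorm k k (hf k)) _).1 hu)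
      · rw [h2 fun h => hk (Finset.mem_insert_of_mem h)]
        exact hfix' (fun e => hk (e ▸ Finset.mem_insert_self m s)) _ hu
  obtain ⟨I, hI, hIk⟩ := hprod i hi Finset.univ
  obtain ⟨J, hJ, hJk⟩ := hprod j hj Finset.univ
  refine ⟨I, hI, J, hJ, ?_⟩
  have hIk' : ∀ k, ∀ u ∈ ⁅V, d.E k⁆, I * u * I⁻¹ = i k * u * (i k)⁻¹ :=
    fun k u hu => (hIk k u hu).1 (Finset.mem_univ k)
  have hJk' : ∀ k, ∀ u ∈ ⁅V, d.E k⁆, J * u * J⁻¹ = j k * u * (j k)⁻¹ :=
    fun k u hu => (hJk k u hu).1 (Finset.mem_univ k)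
  have hon : ∀ k, (∀ u ∈ ⁅V, d.E k⁆, ⁅I, J⁆ * u * ⁅I, J⁆⁻¹ = u⁻¹) ∧
      ∀ u ∈ ⁅V, d.E k⁆, (J * J) * u * (J * J)⁻¹ = u⁻¹ := by
    intro k
    let U := ⁅V, d.E k⁆
    have hIN : I ∈ normalizer (U : Set H) := iSup_le (hnorm k) hI
    have hJN : J ∈ normalizer (U : Set H) := iSup_le (hnorm k) hJ
    let φ := U.normalizerMonoidHom
    have hφ : ∀ (g g' : ↥(normalizer (U : Set H))),
        (∀ u ∈ U, (g : H) * u * (g : H)⁻¹ = (g' : H) * u * (g' : H)⁻¹) → φ g = φ g' := fun g g' h =>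
      MulEquiv.ext fun u => Subtype.ext (h u u.2)
    have hi' : i k ∈ normalizer (U : Set H) := hnorm k k (hi k)
    have hj' : j k ∈ normalizer (U : Set H) := hnorm k k (hj k)
    have eI := hφ ⟨I, hIN⟩ ⟨i k, hi'⟩ (hIk' k)
    have eJ := hφ ⟨J, hJN⟩ ⟨j k, hj'⟩ (hJk' k)
    have e1 : φ ⁅(⟨I, hIN⟩ : ↥(normalizer (U : Set H))), ⟨J, hJN⟩⁆ =
        φ ⁅(⟨i k, hi'⟩ : ↥(normalizer (U : Set H))), ⟨j k, hj'⟩⁆ := by
      rw [map_commutatorElement, map_commutatorElement, eI, eJ]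
    have e2 : φ ((⟨J, hJN⟩ : ↥(normalizer (U : Set H))) * ⟨J, hJN⟩) =
        φ ((⟨j k, hj'⟩ : ↥(normalizer (U : Set H))) * ⟨j k, hj'⟩) := by rw [map_mul, map_mul, eJ]
    exact ⟨fun u hu => (congrArg Subtype.val (MulEquiv.congr_fun e1 ⟨u, hu⟩)).trans (hij k u hu),
      fun u hu => (congrArg Subtype.val (MulEquiv.congr_fun e2 ⟨u, hu⟩)).trans (hjj k u hu)⟩
  have hspan : ∀ t : H, (∀ k, ∀ u ∈ ⁅V, d.E k⁆, t * u * t⁻¹ = u⁻¹) → ∀ v ∈ V, t * v * t⁻¹ = v⁻¹ := by
    intro t ht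
    let K : Subgroup H :=
      { carrier := {v | v ∈ V ∧ t * v * t⁻¹ = v⁻¹}
        one_mem' := ⟨one_mem V, by simp⟩
        mul_mem' := fun {a b} ha hb => ⟨mul_mem ha.1 hb.1, by
          rw [mul_inv_rev, show t * (a * b) * t⁻¹ = t * a * t⁻¹ * (t * b * t⁻¹) by group, ha.2, hb.2]
          exact PGroup.mul_comm_of_isMulCommutative hVab (inv_mem ha.1) (inv_mem hb.1)⟩
        inv_mem' := fun {a} ha => ⟨inv_mem ha.1, by
          rw [show t * a⁻¹ * t⁻¹ = (t * a * t⁻¹)⁻¹ by group, ha.2]⟩ }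
    have hdec := d.decomp
    rw [hfix, bot_sup_eq] at hdec
    intro v hv
    have : (⨆ k, ⁅V, d.E k⁆) ≤ K := iSup_le fun k u hu =>
      ⟨Coprime.commutator_le_left_of_le_normalizer ((d.le k).trans hXV) hu, ht k u hu⟩
    exact (this (hdec.ge hv)).2
  exact ⟨hspan _ fun k => (hon k).1, hspan _ fun k => (hon k).2⟩

/-- The components are generated by elements of order prime to `p`. -/
theorem iSup_le_closure (hp : 5 ≤ p) (d : GDecomp p V X T) :
    (⨆ i, d.E i) ≤ closure {x | x ∈ X ∧ (orderOf x).Coprime p} := by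
  refine iSup_le fun k => ?_
  obtain ⟨⟨n, hn, F, _, _, hF, ⟨e⟩⟩, -⟩ := exists_local (p := p) (by omega) (d.shape k)
  have hcard : 4 ≤ Fintype.card F := by
    rw [hF]
    exact le_trans (by omega) (Nat.le_self_pow (by omega) p)
  have htop : commutator ↥(d.E k) = ⊤ := by
    have h1 := PSL2.sl_commutator_eq_top hcard
    apply map_injective (f := e.toMonoidHom) e.injective
    rw [_root_.commutator_def, map_commutator, map_top_of_surjective _ e.surjective, ← _root_.commutator_def, h1]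
  have hres := PMinPush.pResidual_eq_top_of_perfect (p := p) htop
  rw [Cfsg.pResidual] at hres
  intro x hx
  have h1 : (⟨x, hx⟩ : ↥(d.E k)) ∈ (⊤ : Subgroup ↥(d.E k)) := mem_top _
  rw [← hres] at h1
  have h2 := mem_map_of_mem (d.E k).subtype h1
  rw [MonoidHom.map_closure] at h2
  refine closure_mono ?_ h2
  rintro _ ⟨y, hy, rfl⟩
  refine ⟨d.le k y.2, ?_⟩
  rw [Subgroup.coe_subtype, Subgroup.orderOf_coe]
  exact hy

end Cfsg.Agent.JTransfer
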