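import Cfsg.Agent.Lib.JTransfer.SectionRep
import Cfsg.Agent.Lib.PGroup.Thompson

/-!
# Forms on a section fixed by a subgroup of `p`-power index

`centralize_pairing`: if `W / E` is a chief factor, `G / P` is a `p`-group, `P` centralizes `⁅W, W⁆` and
`a` is of degree six on `W / E` (`p ≥ 7`), then `a` centralizes `⁅W, W⁆`.

* `eq_zero_of_derivation`: `N b - b N = 1 + N` and `N ^ 6 = 0` are contradictory in characteristic `p ≥ 7`;
* `form_fixed`: the bilinear forms fixed by `P` are fixed by `a`.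
-/

set_option autoImplicit false

namespace Cfsg.Agent.JTransfer

open Subgroup
open scoped commutatorElement

universe u

variable {p : ℕ} [Fact p.Prime]

theorem eq_zero_of_derivation (hp : 7 ≤ p) {R : Type*} [Ring R] [Algebra (ZMod p) R] (N b : R)
    (hN : N ^ 6 = 0) (h : N * b - b * N = 1 + N) : (1 : R) = 0 := by
  have hpow : ∀ m : ℕ, N ^ (m + 1) * b - b * N ^ (m + 1) = ((m + 1 : ℕ) : R) * (N ^ m + N ^ (m + 1)) := by
    intro m
    induction m with
    | zero => simpa using h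
    | succ m ih =>
      have e : N ^ (m + 1 + 1) * b - b * N ^ (m + 1 + 1) =
          N * (N ^ (m + 1) * b - b * N ^ (m + 1)) + (N * b - b * N) * N ^ (m + 1) := by
        rw [pow_succ' N (m + 1)]
        simp only [mul_sub, sub_mul, mul_assoc]
        abel
      rw [e, ih, h, ← mul_assoc, ← (Nat.cast_commute (m + 1) N).eq, mul_assoc]
      simp only [mul_add, add_mul, one_mul, ← pow_succ', Nat.cast_add, Nat.cast_one]
      abel
  have hstep : ∀ j, j < 6 → N ^ (j + 1) = 0 → N ^ j = 0 := by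
    intro j hj h0
    have h1 := hpow j
    rw [h0, zero_mul, mul_zero, sub_zero, add_zero, eq_comm, ← map_natCast (algebraMap (ZMod p) R),
      ← Algebra.smul_def, smul_eq_zero] at h1
    refine h1.resolve_left fun h2 => ?_
    rw [ZMod.natCast_eq_zero_iff] at h2
    have := Nat.le_of_dvd (by omega) h2
    omega
  have h5 := hstep 5 (by omega) hN
  have h4 := hstep 4 (by omega) h5
  have h3 := hstep 3 (by omega) h4
  have h2 := hstep 2 (by omega) h3
  have h1 := hstep 1 (by omega) h2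
  simpa using hstep 0 (by omega) h1

variable {G : Type u} [Group G] {V : Type*} [AddCommGroup V] [Module (ZMod p) V] [Finite V]

/-- The bilinear forms. -/
abbrev Form (p : ℕ) (V : Type*) [AddCommGroup V] [Module (ZMod p) V] :=
  V →ₗ[ZMod p] V →ₗ[ZMod p] ZMod p

/-- The pullback of functions of two variables. -/
def pullFun (T : Module.End (ZMod p) V) : Module.End (ZMod p) (V → V → ZMod p) where
  toFun f := fun u w => f (T u) (T w)
  map_add' _ _ := rfl
  map_smul' _ _ := rfl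

theorem form_fixed (hp : 7 ≤ p) (ρ : G →* Module.End (ZMod p) V) {P : Subgroup G} [P.Normal] (a : G)
    (pieces : Set (Submodule (ZMod p) V)) (hspan : sSup pieces = ⊤)
    (hinv : ∀ U ∈ pieces, ∀ g ∈ P ⊔ zpowers a, ∀ u ∈ U, ρ g u ∈ U)
    (hmin : ∀ U ∈ pieces, ∀ U' ≤ U, (∀ g ∈ P ⊔ zpowers a, ∀ u ∈ U', ρ g u ∈ U') → U' = ⊥ ∨ U' = U)
    (h6 : (ρ a - 1) ^ 6 = 0) (f : Form p V) (hf : ∀ x ∈ P, ∀ u w, f (ρ x u) (ρ x w) = f u w) (u w : V) :
    f (ρ a u) (ρ a w) = f u w := by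
  classical
  by_contra hne
  have hpp : p.Prime := Fact.out
  set T := pullFun (ρ a) with hT
  have hap : ρ a ^ p = 1 := by
    rw [← sub_eq_zero]
    have h := congrArg (Polynomial.aeval (ρ a))
      (sub_pow_char (R := Polynomial (ZMod p)) (p := p) (x := Polynomial.X) (y := 1))
    simp only [map_pow, map_sub, Polynomial.aeval_X, map_one, one_pow] at h
    rw [← h, ← pow_mul_pow_sub _ (show 6 ≤ p by omega), h6, zero_mul]
  have hTpow : ∀ (m : ℕ) (g : V → V → ZMod p) (x y : V),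
      (T ^ m) g x y = g ((ρ a ^ m) x) ((ρ a ^ m) y) := by
    intro m
    induction m with
    | zero => exact fun g x y => rfl
    | succ m ih =>
      intro g x y
      rw [pow_succ, Module.End.mul_apply, ih, pow_succ']
      rfl
  have hTp : (T - 1) ^ p = 0 := by
    have h := congrArg (Polynomial.aeval T)
      (sub_pow_char (R := Polynomial (ZMod p)) (p := p) (x := Polynomial.X) (y := 1))
    simp only [map_pow, map_sub, Polynomial.aeval_X, map_one, one_pow] at h
    rw [h, sub_eq_zero]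
    refine LinearMap.ext fun g => funext fun x => funext fun y => ?_
    rw [hTpow, hap]
    rfl
  -- a form moved to a nonzero fixed form
  let D : Form p V → Form p V := fun g => g.compl₁₂ (ρ a) (ρ a) - g
  have hD : ∀ g x y, D g x y = g (ρ a x) (ρ a y) - g x y := fun g x y => rfl
  have hDT : ∀ (i : ℕ) (g : Form p V),
      (fun x y => D^[i] g x y) = ((T - 1) ^ i) (fun x y => g x y) := by
    intro i
    induction i with
    | zero => exact fun g => rfl
    | succ i ih =>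
      intro g
      rw [Function.iterate_succ_apply, ih (D g), pow_succ, Module.End.mul_apply]
      congr 1
  have hDp : D^[p] f = 0 := by
    refine LinearMap.ext fun x => LinearMap.ext fun y => ?_
    have h1 := congrFun (congrFun (hDT p f) x) y
    rw [hTp] at h1
    exact h1
  have hD0 : ∀ i, D^[i] (0 : Form p V) = 0 := fun i =>
    Function.iterate_fixed (LinearMap.ext fun x => LinearMap.ext fun y => by simp [hD]) i
  have hex : ∃ m, D^[m] f = 0 := ⟨p, hDp⟩
  set m := Nat.find hex with hmd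
  have hm : D^[m] f = 0 := Nat.find_spec hex
  have hm1 : ∀ i < m, D^[i] f ≠ 0 := fun i hi => Nat.find_min hex hi
  have hf1 : D f ≠ 0 := fun e => hne (by
    have h1 := congrArg (fun g : Form p V => g u w) e
    simp only [LinearMap.zero_apply] at h1
    rw [hD, sub_eq_zero] at h1
    exact h1)
  have hm2 : 2 ≤ m := by
    by_contra hlt
    refine hf1 ?_
    have h1 : D^[(1 - m) + m] f = 0 := by rw [Function.iterate_add_apply, hm, hD0]
    rwa [show 1 - m + m = 1 by omega] at h1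
  set b := D^[m - 2] f with hb
  set c := D b with hcd
  have hc0 : c ≠ 0 := by
    rw [hcd, hb, ← Function.iterate_succ_apply' D]
    exact hm1 _ (by omega)
  have hc1 : D c = 0 := by
    rw [hcd, hb, ← Function.iterate_succ_apply' D, ← Function.iterate_succ_apply' D,
      show (m - 2).succ.succ = m by omega]
    exact hm
  have hca : ∀ x y, c (ρ a x) (ρ a y) = c x y := fun x y => by
    have h1 := congrArg (fun g : Form p V => g x y) hc1
    simp only [LinearMap.zero_apply] at h1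
    rwa [hD, sub_eq_zero] at h1
  have hba : ∀ x y, b (ρ a x) (ρ a y) = b x y + c x y := fun x y => by
    rw [hcd, hD, add_sub_cancel]
  -- invariance under `P`
  have hPstep : ∀ (g : Form p V), (∀ z ∈ P, ∀ x y, g (ρ z x) (ρ z y) = g x y) →
      ∀ z ∈ P, ∀ x y, D g (ρ z x) (ρ z y) = D g x y := by
    intro g hg z hz x y
    have hz' : a * z * a⁻¹ ∈ P := (inferInstance : P.Normal).conj_mem z hz a
    have e : ∀ v, ρ a (ρ z v) = ρ (a * z * a⁻¹) (ρ a v) := fun v => by
      rw [← Module.End.mul_apply, ← Module.End.mul_apply, ← map_mul, ← map_mul, inv_mul_cancel_right]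
    rw [hD, hD, e, e, hg _ hz', hg z hz]
  have hPpow : ∀ i, ∀ z ∈ P, ∀ x y, D^[i] f (ρ z x) (ρ z y) = D^[i] f x y := by
    intro i
    induction i with
    | zero => exact hf
    | succ i ih =>
      rw [Function.iterate_succ_apply']
      exact hPstep _ ih
  have hcP : ∀ z ∈ P, ∀ x y, c (ρ z x) (ρ z y) = c x y := hPstep _ (hPpow _)
  let stab : Subgroup G :=
    { carrier := {g | ∀ x y, c (ρ g x) (ρ g y) = c x y}
      one_mem' := fun x y => by simp
      mul_mem' := fun {g h} hg hh x y => by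
        rw [map_mul, Module.End.mul_apply, Module.End.mul_apply, hg, hh]
      inv_mem' := fun {g} hg x y => by
        rw [← hg (ρ g⁻¹ x) (ρ g⁻¹ y), ← Module.End.mul_apply, ← Module.End.mul_apply, ← map_mul,
          mul_inv_cancel, map_one]
        rfl }
  have hcL : ∀ g ∈ P ⊔ zpowers a, ∀ x y, c (ρ g x) (ρ g y) = c x y := fun g hg =>
    (sup_le (fun z hz => hcP z hz) (zpowers_le.2 hca) : P ⊔ zpowers a ≤ stab) hg
  -- two pieces paired by `c`
  obtain ⟨Ui, hUi, Uj, hUj, hne2⟩ : ∃ Ui ∈ pieces, ∃ Uj ∈ pieces, ∃ x ∈ Ui, ∃ y ∈ Uj, c x y ≠ 0 := by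
    by_contra hall
    push Not at hall
    refine hc0 (LinearMap.ext fun x => LinearMap.ext fun y => ?_)
    have h1 : ∀ Ui ∈ pieces, ∀ x ∈ Ui, c x = 0 := fun Ui hUi x hx => by
      refine LinearMap.ext fun y => ?_
      have h2 : sSup pieces ≤ LinearMap.ker (c x) := sSup_le fun Uj hUj y hy => hall Ui hUi Uj hUj x hx y hy
      exact h2 (hspan ▸ Submodule.mem_top : y ∈ sSup pieces)
    have h3 : sSup pieces ≤ LinearMap.ker c := sSup_le fun Ui hUi x hx => h1 Ui hUi x hx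
    exact LinearMap.congr_fun (LinearMap.mem_ker.1 (h3 (hspan ▸ Submodule.mem_top : x ∈ sSup pieces))) y
  let cij : ↥Ui →ₗ[ZMod p] Module.Dual (ZMod p) ↥Uj := c.compl₁₂ Ui.subtype Uj.subtype
  let bij : ↥Ui →ₗ[ZMod p] Module.Dual (ZMod p) ↥Uj := b.compl₁₂ Ui.subtype Uj.subtype
  obtain ⟨x₀, hx₀, y₀, hy₀, hxy₀⟩ := hne2
  have hcinv : ∀ g ∈ P ⊔ zpowers a, ∀ x y, c (ρ g x) y = c x (ρ g⁻¹ y) := fun g hg x y => by
    rw [← hcL g hg x (ρ g⁻¹ y), ← Module.End.mul_apply (ρ g) (ρ g⁻¹), ← map_mul, mul_inv_cancel, map_one]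
    rfl
  have hcinv' : ∀ g ∈ P ⊔ zpowers a, ∀ x y, c x (ρ g y) = c (ρ g⁻¹ x) y := fun g hg x y => by
    rw [hcinv g⁻¹ (inv_mem hg), inv_inv]
  have hinjl : Function.Injective cij := by
    rw [← LinearMap.ker_eq_bot]
    rcases hmin Ui hUi ((LinearMap.ker cij).map Ui.subtype) (Submodule.map_subtype_le _ _) (by
      rintro g hg _ ⟨x, hx, rfl⟩
      refine ⟨⟨ρ g x, hinv Ui hUi g hg x x.2⟩, ?_, rfl⟩
      refine LinearMap.ext fun y => ?_
      show c (ρ g x) y = 0
      rw [hcinv g hg]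
      exact LinearMap.congr_fun (LinearMap.mem_ker.1 hx) ⟨_, hinv Uj hUj g⁻¹ (inv_mem hg) y y.2⟩)
      with h1 | h1
    · exact Submodule.map_injective_of_injective Ui.subtype_injective (h1.trans (Submodule.map_bot _).symm)
    · exfalso
      obtain ⟨x, hx, e⟩ := h1.ge hx₀
      refine hxy₀ ?_
      rw [← e]
      exact LinearMap.congr_fun (LinearMap.mem_ker.1 hx) ⟨y₀, hy₀⟩
  have hinjr : Function.Injective cij.flip := by
    rw [← LinearMap.ker_eq_bot]
    rcases hmin Uj hUj ((LinearMap.ker cij.flip).map Uj.subtype) (Submodule.map_subtype_le _ _) (by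
      rintro g hg _ ⟨y, hy, rfl⟩
      refine ⟨⟨ρ g y, hinv Uj hUj g hg y y.2⟩, ?_, rfl⟩
      refine LinearMap.ext fun x => ?_
      show c x (ρ g y) = 0
      rw [hcinv' g hg]
      exact LinearMap.congr_fun (LinearMap.mem_ker.1 hy) ⟨_, hinv Ui hUi g⁻¹ (inv_mem hg) x x.2⟩)
      with h1 | h1
    · exact Submodule.map_injective_of_injective Uj.subtype_injective (h1.trans (Submodule.map_bot _).symm)
    · exfalso
      obtain ⟨y, hy, e⟩ := h1.ge hy₀
      refine hxy₀ ?_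
      rw [← e]
      exact LinearMap.congr_fun (LinearMap.mem_ker.1 hy) ⟨x₀, hx₀⟩
  have hbijc : Function.Bijective cij := by
    have h1 := LinearMap.finrank_le_finrank_of_injective hinjl
    have h2 := LinearMap.finrank_le_finrank_of_injective hinjr
    rw [Subspace.dual_finrank_eq] at h1 h2
    exact ⟨hinjl, (LinearMap.injective_iff_surjective_of_finrank_eq_finrank
      (by rw [Subspace.dual_finrank_eq]; exact le_antisymm h1 h2)).1 hinjl⟩
  -- the operator
  let b' : Module.End (ZMod p) ↥Ui := (LinearEquiv.ofBijective cij hbijc).symm.toLinearMap ∘ₗ bij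
  have hb' : ∀ x, cij (b' x) = bij x := fun x => (LinearEquiv.ofBijective cij hbijc).apply_symm_apply _
  have haL : a ∈ P ⊔ zpowers a := mem_sup_right (mem_zpowers a)
  let A : Module.End (ZMod p) ↥Ui := (ρ a).restrict (hinv Ui hUi a haL)
  have hkey : b' * A = A * (b' + 1) := by
    refine LinearMap.ext fun x => hinjl (LinearMap.ext fun y => ?_)
    have h1 : ((cij (b' (A x))) y : ZMod p) = b (ρ a x) y := LinearMap.congr_fun (hb' (A x)) y
    have h2 : ∀ z, c (ρ a ((b' x + x : ↥Ui) : V)) (ρ a z) = c ((b' x : ↥Ui) : V) z + c x z := fun z => by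
      rw [hca, Submodule.coe_add, map_add, LinearMap.add_apply]
    have h3 : c ((b' x : ↥Ui) : V) (ρ a⁻¹ y) = b x (ρ a⁻¹ y) :=
      LinearMap.congr_fun (hb' x) ⟨_, hinv Uj hUj a⁻¹ (inv_mem haL) y y.2⟩
    have hy : ρ a (ρ a⁻¹ y) = y := by
      rw [← Module.End.mul_apply, ← map_mul, mul_inv_cancel, map_one]; rfl
    show cij (b' (A x)) y = cij (A (b' x + x)) y
    rw [h1]
    show b (ρ a x) y = c (ρ a ((b' x + x : ↥Ui) : V)) y
    conv_lhs => rw [← hy, hba]
    conv_rhs => rw [← hy, h2, h3]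
  have h6' : (A - 1) ^ 6 = 0 := by
    refine LinearMap.ext fun x => Subtype.ext ?_
    have hpow : ∀ (i : ℕ) (x : ↥Ui), (((A - 1) ^ i) x : V) = ((ρ a - 1) ^ i) (x : V) := by
      intro i
      induction i with
      | zero => exact fun x => rfl
      | succ i ih =>
        intro x
        rw [pow_succ', pow_succ', Module.End.mul_apply, Module.End.mul_apply, ← ih]
        rfl
    rw [hpow, h6]
    rfl
  have h10 := eq_zero_of_derivation hp (A - 1) (-b') h6' (by
    rw [mul_neg, neg_mul, sub_neg_eq_add, mul_sub, mul_one, sub_mul, one_mul, hkey, mul_add, mul_one]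
    abel)
  have := congrArg (fun (g : Module.End (ZMod p) ↥Ui) => (g ⟨x₀, hx₀⟩ : V)) h10
  refine hxy₀ ?_
  simp only [Module.End.one_apply, LinearMap.zero_apply, ZeroMemClass.coe_zero] at this
  rw [this, map_zero]
  rfl

theorem centralize_pairing (hp : 7 ≤ p) {G : Type u} [Group G] [Finite G] {W E P : Subgroup G} [P.Normal]
    (hWE : Cfsg.IsChiefFactor W E) (hWW : ⁅W, W⁆ ≤ E) (hEc : E ≤ centralizer (W : Set G))
    (hpE : ∀ x ∈ W, x ^ p ∈ E) (hPp : IsPGroup p ↥((⊤ : Subgroup G).map (QuotientGroup.mk' P)))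
    (hPY : P ≤ centralizer ((⁅W, W⁆ : Subgroup G) : Set G)) {a : G}
    (h6 : Cfsg.iterCommutator W (zpowers a) 6 ≤ E) : a ∈ centralizer ((⁅W, W⁆ : Subgroup G) : Set G) := by
  classical
  haveI hWn := hWE.2.1
  haveI hEn := hWE.2.2.1
  have hEW : E ≤ W := hWE.1.le
  have hYab : IsMulCommutative ↥⁅W, W⁆ := PGroup.isMulCommutative_of_forall fun x hx y hy =>
    hEc (hWW hy) x (hEW (hWW hx))
  obtain ⟨V, _, _, _, ρ, κ, hκs, hκm, hκ0, hκρ, -, hnil⟩ := exists_sectionRep (p := p) hWW hpE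
  -- the pairing
  have hcen : ∀ {e w : G}, e ∈ E → w ∈ W → w * e = e * w := fun he hw => hEc he _ hw
  have hcm : ∀ {x y : G}, x ∈ W → y ∈ W → ⁅x, y⁆ ∈ E := fun hx hy => hWW (commutator_mem_commutator hx hy)
  have hbl : ∀ {x y z : G}, x ∈ W → y ∈ W → z ∈ W → ⁅x * y, z⁆ = ⁅x, z⁆ * ⁅y, z⁆ := fun {x y z} hx hy hz => by
    rw [show ⁅x * y, z⁆ = x * ⁅y, z⁆ * x⁻¹ * ⁅x, z⁆ by simp [commutatorElement_def, mul_assoc],
      hcen (hcm hy hz) hx, mul_inv_cancel_right]
    exact hcen (hcm hx hz) (hEW (hcm hy hz))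
  have hbr : ∀ {x y z : G}, x ∈ W → y ∈ W → z ∈ W → ⁅x, y * z⁆ = ⁅x, y⁆ * ⁅x, z⁆ := fun {x y z} hx hy hz => by
    rw [show ⁅x, y * z⁆ = ⁅x, y⁆ * (y * ⁅x, z⁆ * y⁻¹) by simp [commutatorElement_def, mul_assoc],
      hcen (hcm hx hz) hy, mul_inv_cancel_right]
  have hbp : ∀ {x z : G}, x ∈ W → z ∈ W → ⁅x, z⁆ ^ p = 1 := fun {x z} hx hz => by
    have h1 : ∀ m : ℕ, ⁅x ^ m, z⁆ = ⁅x, z⁆ ^ m := by
      intro m
      induction m with
      | zero => simp
      | succ m ih => rw [pow_succ, hbl (pow_mem hx m) hx hz, ih, pow_succ]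
    rw [← h1, commutatorElement_eq_one_iff_mul_comm]
    exact (hcen (hpE x hx) hz).symm
  letI : CommGroup ↥⁅W, W⁆ := { (inferInstance : Group ↥⁅W, W⁆) with mul_comm := hYab.is_comm.comm }
  have hYp : ∀ y ∈ ⁅W, W⁆, y ^ p = 1 := by
    intro y hy
    rw [Subgroup.commutator_def] at hy
    induction hy using closure_induction with
    | mem z hz => obtain ⟨x, hx, w, hw, rfl⟩ := hz; exact hbp hx hw
    | one => exact one_pow p
    | mul z w hz hw hz1 hw1 =>
      rw [(show Commute z w from congrArg Subtype.val (hYab.is_comm.comm ⟨z, hz⟩ ⟨w, hw⟩)).mul_pow, hz1, hw1, one_mul]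
    | inv z _ hz1 => rw [inv_pow, hz1, inv_one]
  haveI : Module (ZMod p) (Additive ↥⁅W, W⁆) := AddCommGroup.zmodModule fun v => by
    apply Additive.toMul.injective
    rw [toMul_nsmul, toMul_zero]
    exact Subtype.ext (by rw [SubgroupClass.coe_pow]; exact hYp _ (Additive.toMul v).2)
  set lift : V → ↥W := Function.surjInv hκs with hlift
  have hlift' : ∀ v, κ (lift v) = v := Function.surjInv_eq hκs
  let βv : V → V → Additive ↥⁅W, W⁆ := fun u w =>
    Additive.ofMul ⟨⁅(lift u : G), (lift w : G)⁆, commutator_mem_commutator (lift u).2 (lift w).2⟩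
  have hwell : ∀ (x x' y : ↥W), κ x = κ x' → ⁅(x : G), (y : G)⁆ = ⁅(x' : G), (y : G)⁆ := fun x x' y h => by
    have h1 : ((x'⁻¹ * x : ↥W) : G) ∈ E := by
      refine (hκ0 _).1 ?_
      have h2 := hκm x' (x'⁻¹ * x)
      rw [mul_inv_cancel_left, h] at h2
      exact left_eq_add.1 h2
    rw [show (x : G) = x' * ((x'⁻¹ * x : ↥W) : G) by simp, hbl x'.2 (x'⁻¹ * x).2 y.2,
      commutatorElement_eq_one_iff_mul_comm.2 (hcen h1 y.2).symm, mul_one]
  have hwell2 : ∀ (x x' y y' : ↥W), κ x = κ x' → κ y = κ y' → ⁅(x : G), (y : G)⁆ = ⁅(x' : G), (y' : G)⁆ :=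
    fun x x' y y' h h' => by
      rw [hwell x x' y h, ← commutatorElement_inv (y : G), hwell y y' x' h', commutatorElement_inv]
  have hβ : ∀ (x y : ↥W), βv (κ x) (κ y) =
      Additive.ofMul ⟨⁅(x : G), (y : G)⁆, commutator_mem_commutator x.2 y.2⟩ := fun x y =>
    Additive.toMul.injective (Subtype.ext (hwell2 _ x _ y (hlift' _) (hlift' _)))
  have hβl : ∀ u u' w, βv (u + u') w = βv u w + βv u' w := fun u u' w => by
    obtain ⟨x, rfl⟩ := hκs u; obtain ⟨x', rfl⟩ := hκs u'; obtain ⟨y, rfl⟩ := hκs w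
    rw [← hκm, hβ, hβ, hβ]
    exact Additive.toMul.injective (Subtype.ext (hbl x.2 x'.2 y.2))
  have hβr : ∀ u w w', βv u (w + w') = βv u w + βv u w' := fun u w w' => by
    obtain ⟨x, rfl⟩ := hκs u; obtain ⟨y, rfl⟩ := hκs w; obtain ⟨y', rfl⟩ := hκs w'
    rw [← hκm, hβ, hβ, hβ]
    exact Additive.toMul.injective (Subtype.ext (hbr x.2 y.2 y'.2))
  let βA : V →+ (V →ₗ[ZMod p] Additive ↥⁅W, W⁆) :=
    AddMonoidHom.mk' (fun u => (AddMonoidHom.mk' (βv u) (hβr u)).toZModLinearMap p)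
      (fun u u' => LinearMap.ext fun w => hβl u u' w)
  -- the pieces
  set L := P ⊔ zpowers a with hL
  let toSub : Subgroup G → Submodule (ZMod p) V := fun R => AddSubgroup.toZModSubmodule p
    { carrier := {v | ∃ x : ↥W, (x : G) ∈ R ∧ κ x = v}
      zero_mem' := ⟨1, one_mem R, (hκ0 1).2 (one_mem E)⟩
      add_mem' := by
        rintro _ _ ⟨x, hx, rfl⟩ ⟨y, hy, rfl⟩
        exact ⟨x * y, mul_mem hx hy, hκm x y⟩
      neg_mem' := by
        rintro _ ⟨x, hx, rfl⟩
        refine ⟨x⁻¹, inv_mem hx, eq_neg_of_add_eq_zero_left ?_⟩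
        rw [← hκm, inv_mul_cancel]
        exact (hκ0 1).2 (one_mem E) }
  let toGrp : Submodule (ZMod p) V → Subgroup G := fun U =>
    { carrier := {g | ∃ h : g ∈ W, κ ⟨g, h⟩ ∈ U}
      one_mem' := ⟨one_mem W, by
        rw [show κ ⟨1, one_mem W⟩ = 0 from (hκ0 _).2 (one_mem E)]; exact U.zero_mem⟩
      mul_mem' := by
        rintro x y ⟨hx, hx'⟩ ⟨hy, hy'⟩
        exact ⟨mul_mem hx hy, by
          rw [show (⟨x * y, mul_mem hx hy⟩ : ↥W) = ⟨x, hx⟩ * ⟨y, hy⟩ from rfl, hκm]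
          exact U.add_mem hx' hy'⟩
      inv_mem' := by
        rintro x ⟨hx, hx'⟩
        refine ⟨inv_mem hx, ?_⟩
        have h1 := hκm ⟨x⁻¹, inv_mem hx⟩ ⟨x, hx⟩
        rw [show (⟨x⁻¹, inv_mem hx⟩ : ↥W) * ⟨x, hx⟩ = 1 from Subtype.ext (inv_mul_cancel x),
          (hκ0 1).2 (one_mem E)] at h1
        rw [eq_neg_of_add_eq_zero_left h1.symm]
        exact U.neg_mem hx' }
  have hgrp_inv : ∀ U, (∀ g ∈ L, ∀ u ∈ U, ρ g u ∈ U) → L ≤ normalizer (toGrp U : Set G) := by
    intro U hU g hg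
    have h1 : ∀ g ∈ L, ∀ x ∈ toGrp U, g * x * g⁻¹ ∈ toGrp U := by
      rintro g hg x ⟨hx, hx'⟩
      refine ⟨hWn.conj_mem x hx g, ?_⟩
      rw [← hκρ g ⟨x, hx⟩]
      exact hU g hg _ hx'
    refine mem_normalizer_iff.2 fun x => ⟨h1 g hg x, fun hx => ?_⟩
    simpa [mul_assoc] using h1 g⁻¹ (inv_mem hg) _ hx
  let pieces : Set (Submodule (ZMod p) V) := toSub '' {R | ConjFun.IsMinInv W E L R}
  have hspan : sSup pieces = ⊤ := by
    have hgen := ConjFun.le_sSup_minInv (U := W) (V := E) (C := P) (N := ⊤) (L := L) hWE le_sup_left le_top hPp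
    have h1 : sSup {R | ConjFun.IsMinInv W E L R} ≤ toGrp (sSup pieces) := sSup_le fun R hR g hg =>
      ⟨hR.2.1 hg, (le_sSup ⟨R, hR, rfl⟩ : toSub R ≤ sSup pieces) ⟨⟨g, hR.2.1 hg⟩, hg, rfl⟩⟩
    refine Submodule.eq_top_iff'.2 fun v => ?_
    obtain ⟨x, rfl⟩ := hκs v
    obtain ⟨_, h2⟩ := h1 (hgen x.2)
    exact h2
  have hinv : ∀ U ∈ pieces, ∀ g ∈ L, ∀ u ∈ U, ρ g u ∈ U := by
    rintro _ ⟨R, hR, rfl⟩ g hg _ ⟨x, hx, rfl⟩
    exact ⟨⟨g * x * g⁻¹, hWn.conj_mem x x.2 g⟩, (mem_normalizer_iff.1 (hR.2.2.1 hg) _).1 hx, (hκρ g x).symm⟩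
  have hmin : ∀ U ∈ pieces, ∀ U' ≤ U, (∀ g ∈ L, ∀ u ∈ U', ρ g u ∈ U') → U' = ⊥ ∨ U' = U := by
    rintro _ ⟨R, hR, rfl⟩ U' hU' hU'inv
    have h1 : E ≤ toGrp U' := fun e he => ⟨hEW he, by
      rw [show κ ⟨e, hEW he⟩ = 0 from (hκ0 _).2 he]; exact U'.zero_mem⟩
    have h2 : toGrp U' ≤ R := by
      rintro g ⟨hg, hg'⟩
      obtain ⟨x, hx, e⟩ := hU' hg'
      have h3 := hκm x (x⁻¹ * ⟨g, hg⟩)
      rw [mul_inv_cancel_left, ← e, left_eq_add] at h3
      have h4 : (x : G)⁻¹ * g ∈ E := (hκ0 _).1 h3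
      have := mul_mem hx (hR.1.le h4)
      rwa [mul_inv_cancel_left] at this
    rcases hR.2.2.2 _ h1 h2 (hgrp_inv U' hU'inv) with h3 | h3
    · left
      refine (Submodule.eq_bot_iff _).2 fun v hv => ?_
      obtain ⟨x, rfl⟩ := hκs v
      exact (hκ0 x).2 (h3.le ⟨x.2, hv⟩)
    · right
      refine le_antisymm hU' ?_
      rintro _ ⟨x, hx, rfl⟩
      obtain ⟨_, h4⟩ := h3.ge hx
      exact h4
  -- all components of the pairing are fixed
  have hfix : ∀ x y : ↥W, ⁅a * (x : G) * a⁻¹, a * (y : G) * a⁻¹⁆ = ⁅(x : G), (y : G)⁆ := by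
    intro x y
    have h1 : ∀ lam : Module.Dual (ZMod p) (Additive ↥⁅W, W⁆),
        lam (βv (ρ a (κ x)) (ρ a (κ y))) = lam (βv (κ x) (κ y)) := by
      intro lam
      let f : Form p V := (AddMonoidHom.mk' (fun u => lam ∘ₗ βA u) (fun u u' => LinearMap.ext fun w => by
        show lam (βA (u + u') w) = lam (βA u w) + lam (βA u' w)
        rw [map_add, LinearMap.add_apply, map_add])).toZModLinearMap p
      refine form_fixed hp ρ (P := P) a pieces hspan hinv hmin (hnil a 6 h6) f (fun z hz u w => ?_) (κ x) (κ y)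
      obtain ⟨x, rfl⟩ := hκs u
      obtain ⟨y, rfl⟩ := hκs w
      show lam (βv (ρ z (κ x)) (ρ z (κ y))) = lam (βv (κ x) (κ y))
      rw [hκρ, hκρ, hβ, hβ]
      congr 2
      refine Subtype.ext ?_
      show ⁅z * (x : G) * z⁻¹, z * (y : G) * z⁻¹⁆ = ⁅(x : G), (y : G)⁆
      have h2 : z * ⁅(x : G), (y : G)⁆ * z⁻¹ = ⁅(x : G), (y : G)⁆ := by
        rw [← hPY hz _ (commutator_mem_commutator x.2 y.2), mul_inv_cancel_right]
      conv_rhs => rw [← h2]
      simp [commutatorElement_def, mul_assoc]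
    have h2 : βv (ρ a (κ x)) (ρ a (κ y)) = βv (κ x) (κ y) := by
      rw [← sub_eq_zero, ← Module.forall_dual_apply_eq_zero_iff (ZMod p)]
      intro lam
      rw [map_sub, h1, sub_self]
    rw [hκρ, hκρ, hβ, hβ] at h2
    exact congrArg Subtype.val (Additive.ofMul.injective h2)
  have hle : ⁅W, W⁆ ≤ centralizer ({a} : Set G) := commutator_le.2 fun x hx y hy => by
    refine mem_centralizer_singleton_iff.2 ?_
    have h1 := hfix ⟨x, hx⟩ ⟨y, hy⟩
    have e : ⁅a * x * a⁻¹, a * y * a⁻¹⁆ = a * ⁅x, y⁆ * a⁻¹ := by simp [commutatorElement_def, mul_assoc]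
    rw [e] at h1
    exact (mul_inv_eq_iff_eq_mul.1 h1).symm
  exact fun y hy => mem_centralizer_singleton_iff.1 (hle hy)

end Cfsg.Agent.JTransfer
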