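import Cfsg.Agent.Lib.JTransfer.Series
import Cfsg.Agent.Lib.JTransfer.Forms
import Cfsg.Agent.Lib.JTransfer.CentralizeCore
import Cfsg.Agent.Lib.JTransfer.Centre
import Cfsg.Agent.Lib.JTransfer.Chain

/-!
# Engel elements on a chief factor below `O_p`

`M` is the only maximal subgroup over the Sylow subgroup `S`, some abelian subgroup of largest order of `S` lies
outside `Q = O_p(G)`, and `p ≥ 7`.

* `layer_four`: on a chief factor `W / E` of a class two part of `Q` a replaced subgroup has degree at most four;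
* `exists_engel`: every chief factor `U / V` below `Q` with `V` containing the proper normal subgroups of `U`
  has an element of `S` outside `Q` of degree at most `p - 1` on it.
-/

set_option autoImplicit false
set_option linter.style.haveILetI false

namespace Cfsg.Agent.JTransfer

open Subgroup PGroup
open scoped commutatorElement

universe u

variable {G : Type u} [Group G] [Finite G] {p : ℕ} [Fact p.Prime]

/-- The elements of `Q ⊓ C(Q)` killed by `p`. -/
def omegaCentre (p : ℕ) (Q : Subgroup G) : Subgroup G where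
  carrier := {x | x ∈ Q ⊓ centralizer (Q : Set G) ∧ x ^ p = 1}
  one_mem' := ⟨one_mem _, one_pow _⟩
  mul_mem' {x y} hx hy := ⟨mul_mem hx.1 hy.1, by
    rw [(show Commute x y from hy.1.2 x hx.1.1).mul_pow, hx.2, hy.2, one_mul]⟩
  inv_mem' {x} hx := ⟨inv_mem hx.1, by rw [inv_pow, hx.2, inv_one]⟩

omit [Finite G] [Fact p.Prime] in
theorem omegaCentre_normal {Q : Subgroup G} [hQ : Q.Normal] : (omegaCentre p Q).Normal :=
  ⟨fun x hx g => ⟨(inferInstance : (Q ⊓ centralizer (Q : Set G)).Normal).conj_mem x hx.1 g, by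
    rw [conj_pow, hx.2, mul_one, mul_inv_cancel]⟩⟩

omit [Finite G] [Fact p.Prime] in
theorem omegaCentre_elementaryAbelian {Q : Subgroup G} :
    Cfsg.IsElementaryAbelian p (omegaCentre p Q) :=
  ⟨PGroup.isMulCommutative_of_forall fun x hx _ hy => hy.1.2 x hx.1.1, fun _ hx => hx.2⟩

omit [Finite G] [Fact p.Prime] in
theorem comm_pow_left {Q W E : Subgroup G} (hl : Layer p Q W E) {x y : G} (hx : x ∈ W) (hy : y ∈ W) :
    ∀ k : ℕ, ⁅x ^ k, y⁆ = ⁅x, y⁆ ^ k
  | 0 => by simp
  | k + 1 => by rw [pow_succ, hl.bmul_left (pow_mem hx k) hx hy, comm_pow_left hl hx hy k, pow_succ]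

omit [Finite G] [Fact p.Prime] in
theorem comm_le_omegaCentre {Q W E : Subgroup G} (hl : Layer p Q W E) : ⁅W, W⁆ ≤ omegaCentre p Q := by
  rw [commutator_le]
  intro x hx y hy
  have h1 := commutator_mem_commutator hx hy
  refine ⟨⟨hl.hWQ (hl.hEW (hl.comm_le h1)), hl.hYQ h1⟩, ?_⟩
  rw [← comm_pow_left hl hx hy p]
  exact commutatorElement_eq_one_iff_mul_comm.2 (hl.hEc (hl.hpE x hx) y hy).symm

theorem mem_of_comm_mem {K C : Subgroup G} [hK : K.Normal] (hC : ¬ p ∣ K.relIndex C) {a t : G} {n : ℕ}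
    (ha : a ^ p ^ n = 1) (hc : ⁅t, a⁆ ∈ C) (hca : ⁅⁅t, a⁆, a⁆ ∈ K) : ⁅t, a⁆ ∈ K := by
  set c := ⁅t, a⁆ with hc'
  set π := QuotientGroup.mk' K with hπ
  have h1 : Commute (π c) (π a) := by
    have : π ⁅c, a⁆ = 1 := (QuotientGroup.eq_one_iff _).2 hca
    rw [map_commutatorElement] at this
    exact commutatorElement_eq_one_iff_mul_comm.1 this
  have h2 : π c * π a = π t * π a * (π t)⁻¹ := by
    rw [← map_inv π t, ← map_mul, ← map_mul, ← map_mul]
    congr 1
    simp [hc', commutatorElement_def]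
  have h3 : π a ^ p ^ n = 1 := by rw [← map_pow, ha, map_one]
  have h4 : π c ^ p ^ n = 1 := by
    have h5 := h1.mul_pow (p ^ n)
    rw [h2, conj_pow, h3, mul_one, mul_inv_cancel, mul_one] at h5
    exact h5.symm
  have h6 : π c ^ K.relIndex C = 1 := by
    rw [← map_pow]
    exact (QuotientGroup.eq_one_iff _).2 (K.pow_relIndex_mem hc)
  refine (QuotientGroup.eq_one_iff c).1 (orderOf_eq_one_iff.1 (Nat.eq_one_of_dvd_coprimes ?_
    (orderOf_dvd_of_pow_eq_one h4) (orderOf_dvd_of_pow_eq_one h6)))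
  exact ((Nat.Prime.coprime_iff_not_dvd Fact.out).2 hC).pow_left n

variable {S : Sylow p G} {M : Subgroup G}

theorem layer_four (hp : 7 ≤ p) (hne : M ≠ ⊤) (hSM : (S : Subgroup G) ≤ M)
    (huniq : ∀ X : Subgroup G, (S : Subgroup G) ≤ X → X ≠ ⊤ → X ≤ M) {W E H E' A : Subgroup G}
    (hWE : Cfsg.IsChiefFactor W E) (hl : Layer p (Cfsg.pCore p G) W E)
    (hA : Repl (S : Subgroup G) (Cfsg.pCore p G) A H E') (hWH : W ≤ H)
    (hVH : omegaCentre p (Cfsg.pCore p G) ≤ H) : Cfsg.iterCommutator W A 4 ≤ E := by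
  set Q := Cfsg.pCore p G with hQ
  haveI hWn := hl.hW
  haveI hEn := hl.hE
  set V := omegaCentre p Q with hV
  haveI : V.Normal := omegaCentre_normal
  set C := centralizer (V : Set G) with hC
  haveI hCn : C.Normal := normal_centralizer
  have hWV : ⁅W, W⁆ ≤ V := comm_le_omegaCentre hl
  have hVQ : V ≤ Q := fun x hx => hx.1.1
  have hQC : Q ≤ C := fun q hq v hv => (hv.1.2 q hq).symm
  have h6 : Cfsg.iterCommutator W A 6 ≤ E := hl.six S.2 hA hWH
  have h6a : ∀ a ∈ A, Cfsg.iterCommutator W (zpowers a) 6 ≤ E := fun a ha =>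
    (iterCommutator_mono_right (zpowers_le.2 ha) 6).trans h6
  by_cases hCM : C ≤ M
  · obtain ⟨I, hI, J, hJ, hIJ, hfix⟩ := exists_theta (by omega) hne hSM huniq omegaCentre_elementaryAbelian
      hVQ hQC hCM hA.hA hA.hAQ (fun v hv a ha b hb => hA.quadratic S.2 (hVH hv) hv.1.2 ha hb)
    set K := ConjFun.kerOn W E hEn with hKdef
    haveI hKn : K.Normal := ConjFun.kerOn_normal hWn hEn
    have hK : ∀ c, c ∈ K ↔ ∀ x ∈ W, ⁅c, x⁆ ∈ E := fun c =>
      forall₂_congr fun x _ => by rw [← commutatorElement_inv x c, inv_mem_iff]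
    have hQK : Q ≤ K := fun q hq x hx => hl.hQE (commutator_mem_commutator hx hq)
    have hKC : ¬ p ∣ K.relIndex C := fun h => ConjFun.not_dvd_relIndex_inf (H := ⊤) (L := C)
      (T := (S : Subgroup G)) S.2 (by rw [relIndex_top_right]; exact S.not_dvd_index) le_top
      (normalizer_eq_top (H := C)).ge
      (h.trans (relIndex_dvd_of_le_left C ((PushingUp.inf_le_pCore_of_uniq hne huniq hCM).trans hQK)))
    -- elements moved into `C` by all conjugates of `A` are central modulo `K`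
    have hcen : ∀ t : G, (∀ (g : G), ∀ a ∈ A, ⁅t, g * a * g⁻¹⁆ ∈ C) →
        normalClosure (A : Set G) ≤
          (centralizer ({QuotientGroup.mk' K t} : Set (G ⧸ K))).comap (QuotientGroup.mk' K) := by
      intro t ht
      unfold normalClosure
      rw [closure_le]
      intro x hx
      obtain ⟨a, ha, hax⟩ := Group.mem_conjugatesOfSet_iff.1 hx
      obtain ⟨g, rfl⟩ := isConj_iff.1 hax
      have hconj : Cfsg.iterCommutator W (zpowers (g * a * g⁻¹)) 6 ≤ E := by
        have h1 := Subgroup.map_mono (f := (MulAut.conj g).toMonoidHom) (h6a a ha)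
        rw [ConjFun.map_iterCommutator, ConjFun.conjMap_eq_self ((normalizer_eq_top (H := W)).ge (mem_top g)),
          ConjFun.conjMap_eq_self ((normalizer_eq_top (H := E)).ge (mem_top g)), MonoidHom.map_zpowers] at h1
        exact h1
      obtain ⟨n, hn⟩ := S.2 ⟨a, hA.hA.1 ha⟩
      have hn' : (g * a * g⁻¹) ^ p ^ n = 1 := by
        rw [conj_pow, show a ^ p ^ n = 1 from congrArg Subtype.val hn, mul_one, mul_inv_cancel]
      have hk : ⁅t, g * a * g⁻¹⁆ ∈ K := mem_of_comm_mem hKC hn' (ht g a ha)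
        (comm_comm_mem hp hl.comm_le hl.hpE hK hKC ((normalizer_eq_top (H := C)).ge (mem_top _)) hconj _
          (ht g a ha))
      have h1 : QuotientGroup.mk' K ⁅t, g * a * g⁻¹⁆ = 1 := (QuotientGroup.eq_one_iff _).2 hk
      rw [map_commutatorElement, commutatorElement_eq_one_iff_mul_comm] at h1
      exact mem_centralizer_singleton_iff.2 h1.symm
    have hθ := hcen ⁅I, J⁆ fun g a ha => (hIJ g a ha).1
    have hs := hcen (J * J) fun g a ha => (hIJ g a ha).2
    set π := QuotientGroup.mk' K with hπ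
    have hcomm : ∀ t x, x ∈ (centralizer ({π t} : Set (G ⧸ K))).comap π → Commute (π x) (π t) :=
      fun t x hx => mem_centralizer_singleton_iff.1 hx
    have hθ2 : ⁅I, J⁆ * ⁅I, J⁆ ∈ K := by
      have hi : Commute (π I) (π (J * J)) := hcomm _ I (hs hI)
      have hj : Commute (π J) (π ⁅I, J⁆) := hcomm _ J (hθ hJ)
      rw [map_mul] at hi
      rw [map_commutatorElement, commutatorElement_def] at hj
      refine (QuotientGroup.eq_one_iff _).1 ?_
      show π (⁅I, J⁆ * ⁅I, J⁆) = 1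
      rw [map_mul, map_commutatorElement, commutatorElement_def]
      generalize π I = i at hi hj ⊢
      generalize π J = j at hi hj ⊢
      set t := i * j * i⁻¹ * j⁻¹ with ht
      have h1 : i * j * i⁻¹ = t * j := by rw [ht]; group
      have h2 : i * (j * j) * i⁻¹ = j * j := by rw [hi.eq, mul_inv_cancel_right]
      have h3 : t * j * (t * j) = j * j := by
        rw [← h1, show i * j * i⁻¹ * (i * j * i⁻¹) = i * (j * j) * i⁻¹ by group, h2]
      calc t * t = t * j * (t * j) * (j * j)⁻¹ := by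
            rw [show t * j * (t * j) = t * (j * t) * j by group, hj.eq]; group
        _ = 1 := by rw [h3, mul_inv_cancel]
    have hθA : ∀ a ∈ A, ⁅⁅I, J⁆, a⁆ ∈ K := fun a ha => by
      have h1 := hcomm _ a (hθ (subset_normalClosure ha))
      refine (QuotientGroup.eq_one_iff _).1 ?_
      show π ⁅⁅I, J⁆, a⁆ = 1
      rw [map_commutatorElement, commutatorElement_eq_one_iff_mul_comm]
      exact h1.eq.symm
    refine hl.four S.2 hA hWH (by omega) ⁅I, J⁆ (fun x hx a ha => ?_) (fun x hx => ?_)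
      fun y hy hf => hfix y (hWV hy) hf
    · set t := ⁅I, J⁆ with ht
      set k := ⁅t, a⁆ with hk
      set y := t * x * t⁻¹ with hy
      have hyW : y ∈ W := hWn.conj_mem x hx t
      have e1 : t * ⁅x, a⁆ * t⁻¹ = ⁅y, k * a⁆ := by
        simp [hy, hk, commutatorElement_def, mul_assoc]
      have e2 : ⁅y, k * a⁆ * ⁅y, a⁆⁻¹ = ⁅y, k⁆ * ⁅k, ⁅y, a⁆⁆ := by
        simp [commutatorElement_def, mul_assoc]
      rw [e1, e2]
      exact mul_mem (hθA a ha y hyW) ((hK k).1 (hθA a ha) _ (comm_mem_of_normal a hyW))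
    · have e : ⁅I, J⁆ * (⁅I, J⁆ * x * ⁅I, J⁆⁻¹) * ⁅I, J⁆⁻¹ * x⁻¹ = ⁅⁅I, J⁆ * ⁅I, J⁆, x⁆ := by
        rw [commutatorElement_def (⁅I, J⁆ * ⁅I, J⁆) x]; group
      rw [e]
      exact (hK _).1 hθ2 x hx
  · -- `C(V)` covers `G` modulo `S`
    have htop : C ⊔ (S : Subgroup G) = ⊤ := by
      by_contra h
      exact hCM (le_sup_left.trans (huniq _ le_sup_right h))
    have hp' : IsPGroup p ↥((⊤ : Subgroup G).map (QuotientGroup.mk' C)) := by
      rw [← htop, Subgroup.map_sup, QuotientGroup.map_mk'_self, bot_sup_eq]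
      exact S.2.map _
    refine hl.four S.2 hA hWH (by omega) 1 (fun x _ a _ => ?_) (fun x _ => ?_) fun y hy _ a ha => ?_
    · simp only [one_mul, inv_one, mul_one, mul_inv_cancel]
      exact one_mem E
    · simp only [one_mul, inv_one, mul_one, mul_inv_cancel]
      exact one_mem E
    · exact (centralize_pairing hp hWE hl.comm_le hl.hEc hl.hpE hp' (centralizer_le hWV) (h6a a ha) y hy).symm

theorem exists_class_two {U : Subgroup G} [U.Normal] (hUQ : U ≤ Cfsg.pCore p G)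
    (hall : ∀ N : Subgroup G, N.Normal → N ≤ Cfsg.pCore p G → IsMulCommutative ↥N →
      U ≤ centralizer (N : Set G)) :
    ∃ H E : Subgroup G, H.Normal ∧ E.Normal ∧ H ≤ Cfsg.pCore p G ∧ U ≤ H ∧ E ≤ H ∧
      ⁅H, H⁆ ≤ E ∧ E ≤ centralizer (H : Set G) ∧ omegaCentre p (Cfsg.pCore p G) ≤ H ∧
      ∀ N : Subgroup G, N.Normal → N ≤ H → IsMulCommutative ↥N → N ≤ E := by
  set Q := Cfsg.pCore p G with hQ
  set C := ⨅ N : {N : Subgroup G // N.Normal ∧ N ≤ Q ∧ IsMulCommutative ↥N}, centralizer (N.1 : Set G) with hC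
  haveI : C.Normal := normal_iInf_normal fun N => by haveI := N.2.1; exact normal_centralizer
  set H := Q ⊓ C with hH
  have hHc : ∀ N : Subgroup G, N.Normal → N ≤ Q → IsMulCommutative ↥N → H ≤ centralizer (N : Set G) :=
    fun N h1 h2 h3 => inf_le_right.trans (iInf_le_of_le ⟨N, h1, h2, h3⟩ le_rfl)
  haveI : (H ⊓ centralizer (H : Set G)).Normal := inferInstance
  refine ⟨H, H ⊓ centralizer (H : Set G), inferInstance, inferInstance, inf_le_left,
    le_inf hUQ (le_iInf fun N => hall N.1 N.2.1 N.2.2.1 N.2.2.2), inf_le_left,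
    le_inf (commutator_le_left H H) (comm_self_le_centralizer (PCore.isPGroup_pCore.to_le inf_le_left)
      fun N h1 h2 h3 => hHc N h1 (h2.trans inf_le_left) h3),
    inf_le_right, fun x hx => ⟨hx.1.1, ?_⟩, fun N h1 h2 h3 => le_inf h2
      (le_centralizer_iff.1 (hHc N h1 (h2.trans inf_le_left) h3))⟩
  exact mem_iInf.2 fun N y hy => hx.1.2 y (N.2.2.1 hy)

theorem exists_engel (hp : 7 ≤ p) (hne : M ≠ ⊤) (hSM : (S : Subgroup G) ≤ M)
    (huniq : ∀ X : Subgroup G, (S : Subgroup G) ≤ X → X ≠ ⊤ → X ≤ M)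
    (hex : ∃ A, IsMaxAb (S : Subgroup G) A ∧ ¬ A ≤ Cfsg.pCore p G) {U V : Subgroup G}
    (hUV : Cfsg.IsChiefFactor U V) (hUQ : U ≤ Cfsg.pCore p G)
    (htop : ∀ N : Subgroup G, N.Normal → N ≤ U → N ≠ U → N ≤ V) :
    ∃ g ∈ (S : Subgroup G), g ∉ Cfsg.pCore p G ∧ Cfsg.iterCommutator U (zpowers g) (p - 1) ≤ V := by
  set Q := Cfsg.pCore p G with hQ
  have hQp : IsPGroup p ↥Q := PCore.isPGroup_pCore
  have hQS : Q ≤ (S : Subgroup G) := PCore.pCore_le_sylow S
  haveI hUn := hUV.2.1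
  haveI hVn := hUV.2.2.1
  have hch : ∀ {X X' : Subgroup G}, Cfsg.IsChiefFactor X X' → X ≤ Q → ∀ {K : Subgroup G}, K ≤ Q →
      ⁅X, K⁆ ≤ X' := by
    intro X X' h hX K hK
    exact (commutator_mono le_rfl hK).trans (ConjFun.commutator_le_of_isChiefFactor h (hQp.to_le hX) hQp)
  have hUU : ⁅U, U⁆ ≤ V := hch hUV hUQ hUQ
  have hnorm : ∀ (N : Subgroup G) [N.Normal], (S : Subgroup G) ≤ normalizer (N : Set G) := fun N _ =>
    le_top.trans (normalizer_eq_top (H := N)).ge
  by_cases hall : ∀ N : Subgroup G, N.Normal → N ≤ Q → IsMulCommutative ↥N → U ≤ centralizer (N : Set G)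
  · obtain ⟨H, E, hHn, hEn, hHQ, hUH, hEH, hHH, hEH', hVH, habE⟩ := exists_class_two hUQ hall
    have hEab : IsMulCommutative ↥E :=
      PGroup.isMulCommutative_of_forall fun x hx y hy => (hEH' hx y (hEH hy)).symm
    obtain ⟨A, hA⟩ := exists_repl hQS hHQ (hnorm H) (hnorm Q) hHH hEH' hex
    obtain ⟨g, hgA, hgQ⟩ := SetLike.not_le_iff_exists.1 hA.hAQ
    refine ⟨g, hA.hA.1 hgA, hgQ, ?_⟩
    by_cases hUE : U ≤ E
    · exact ConjFun.iterCommutator_le_of_le (by omega : 3 ≤ p - 1) (hA.cubic S.2 hUH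
        (fun v hv => absSet_of_le hEab (JTransfer.mset_le fun a _ => comm_mem_of_normal a (hUE hv)))
        (hch hUV hUQ le_rfl) hUV.1.le hUU hgA)
    -- a chief factor over `E` moved by `U`
    obtain ⟨W, hWE, hWH, hWU⟩ : ∃ W, Cfsg.IsChiefFactor W E ∧ W ≤ H ∧ ¬ U ≤ centralizer (W : Set G) := by
      by_contra hc
      push_neg at hc
      set C := H ⊓ ⨅ W : {W : Subgroup G // Cfsg.IsChiefFactor W E ∧ W ≤ H}, centralizer (W.1 : Set G) with hC
      haveI : (⨅ W : {W : Subgroup G // Cfsg.IsChiefFactor W E ∧ W ≤ H}, centralizer (W.1 : Set G)).Normal :=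
        normal_iInf_normal fun W => by haveI := W.2.1.2.1; exact normal_centralizer
      have hEC : E ≤ C := le_inf hEH (le_iInf fun W => hEH'.trans (centralizer_le W.2.2))
      have hUC : U ≤ C := le_inf hUH (le_iInf fun W => hc W.1 W.2.1 W.2.2)
      have hlt : E < C := lt_of_le_of_ne hEC fun e => hUE (e ▸ hUC)
      obtain ⟨W₀, ⟨hW₀, hEW₀, hW₀C⟩, hmin⟩ :=
        (Set.toFinite {W : Subgroup G | W.Normal ∧ E < W ∧ W ≤ C}).exists_minimal
          ⟨C, inferInstance, hlt, le_rfl⟩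
      have hchief : Cfsg.IsChiefFactor W₀ E := ⟨hEW₀, hW₀, hEn, fun N hN hEN hNW => by
        rcases eq_or_ne N E with e | e
        · exact Or.inl e
        · exact Or.inr (le_antisymm hNW (hmin ⟨hN, lt_of_le_of_ne hEN e.symm, hNW.trans hW₀C⟩ hNW))⟩
      have hW₀H : W₀ ≤ H := hW₀C.trans inf_le_left
      have hab : IsMulCommutative ↥W₀ := PGroup.isMulCommutative_of_forall fun x hx y hy =>
        ((mem_iInf.1 (hW₀C hx).2 ⟨W₀, hchief, hW₀H⟩) y hy).symm
      exact hEW₀.not_ge (habE W₀ hW₀ hW₀H hab)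
    haveI hWn := hWE.2.1
    have hWQ : W ≤ Q := hWH.trans hHQ
    have hWQE : ⁅W, Q⁆ ≤ E := hch hWE hWQ le_rfl
    have hl : Layer p Q W E :=
      { hW := hWn
        hE := hEn
        hEW := hWE.1.le
        hWQ := hWQ
        hQE := hWQE
        hEc := hEH'.trans (centralizer_le hWH)
        hYQ := by
          have hEW' : ⁅E, W⁆ = ⊥ := commutator_eq_bot_iff_le_centralizer.2 (hEH'.trans (centralizer_le hWH))
          have h1 : ⁅⁅W, Q⁆, W⁆ = ⊥ := le_bot_iff.1 ((commutator_mono hWQE le_rfl).trans hEW'.le)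
          exact commutator_eq_bot_iff_le_centralizer.1 (commutator_commutator_eq_bot_of_rotate h1
            (by rw [commutator_comm Q W]; exact h1))
        hpE := fun x hx => ConjFun.pow_mem_of_isChiefFactor hWE (hQp.to_le hWQ) hx }
    have h4 : Cfsg.iterCommutator W (zpowers g) 4 ≤ E :=
      (iterCommutator_mono_right (zpowers_le.2 hgA) 4).trans (layer_four hp hne hSM huniq hWE hl hA hWH hVH)
    set Y := ⁅W, U⁆ with hY
    have hYE : Y ≤ E := (commutator_mono le_rfl hUQ).trans hWQE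
    have hY0 : Y ≠ ⊥ := fun e =>
      hWU (le_centralizer_iff.1 (commutator_eq_bot_iff_le_centralizer.1 e))
    obtain ⟨Y', hYY'⟩ := ConjFun.exists_chief_top hY0
    haveI := hYY'.2.2.1
    have hYQ : Y ≤ Q := hYE.trans (hEH.trans hHQ)
    have hj : Cfsg.iterCommutator Y (zpowers g) 3 ≤ Y' := hA.cubic S.2 (hYE.trans hEH)
      (fun v hv => absSet_of_le hEab (JTransfer.mset_le fun a _ => comm_mem_of_normal a (hYE hv)))
      (hch hYY' hYQ le_rfl) hYY'.1.le (hch hYY' hYQ hYQ) hgA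
    refine ConjFun.iterCommutator_le_of_le (by omega : 6 ≤ p - 1) (engel_of_pairing hUV.1.le hUU htop
      hYY'.2.2.1 (fun h => hYY'.1.not_ge h) (hch hYY' hYQ hYQ) (hch hYY' hYQ hUQ) (hch hYY' hYQ hWQ)
      (fun a ha x hx => commutator_mem_commutator hx ha) (fun a ha x hx => ?_) g (by omega) h4 hj)
    rw [commutatorElement_eq_one_iff_mul_comm.2 (hEH' hx a (hUH ha)).symm]
    exact one_mem Y'
  · push_neg at hall
    obtain ⟨N, hN, hNQ, hNab, hUN⟩ := hall
    haveI := hN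
    obtain ⟨A, hA⟩ := exists_repl hQS hNQ (hnorm N) (hnorm Q) (commutator_le_left N N)
      (le_centralizer_of_isMulCommutative hNab) hex
    obtain ⟨g, hgA, hgQ⟩ := SetLike.not_le_iff_exists.1 hA.hAQ
    refine ⟨g, hA.hA.1 hgA, hgQ, ?_⟩
    obtain ⟨W, ⟨hWn, hWN, hWU⟩, hmin⟩ :=
      (Set.toFinite {W : Subgroup G | W.Normal ∧ W ≤ N ∧ ¬ U ≤ centralizer (W : Set G)}).exists_minimal
        ⟨N, hN, le_rfl, hUN⟩
    have hW0 : W ≠ ⊥ := fun e => hWU fun x _ w hw => by
      subst e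
      rw [mem_bot.1 hw, one_mul, mul_one]
    obtain ⟨X, hWX⟩ := ConjFun.exists_chief_top hW0
    haveI hXn := hWX.2.2.1
    have hXU : U ≤ centralizer (X : Set G) := by
      by_contra h
      exact hWX.1.not_ge (hmin ⟨hXn, hWX.1.le.trans hWN, h⟩ hWX.1.le)
    have hWQ : W ≤ Q := hWN.trans hNQ
    set Y := ⁅W, U⁆ with hY
    have hY0 : Y ≠ ⊥ := fun e =>
      hWU (le_centralizer_iff.1 (commutator_eq_bot_iff_le_centralizer.1 e))
    obtain ⟨Y', hYY'⟩ := ConjFun.exists_chief_top hY0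
    haveI := hYY'.2.2.1
    have hYW : Y ≤ W := (hch hWX hWQ hUQ).trans hWX.1.le
    have hYQ : Y ≤ Q := hYW.trans hWQ
    have habs : ∀ v ∈ N, AbSet v A := fun v hv => absSet_of_le hNab (hA.mset_le hv)
    have hi : Cfsg.iterCommutator W (zpowers g) 3 ≤ X := hA.cubic S.2 hWN (fun v hv => habs v (hWN hv))
      (hch hWX hWQ le_rfl) hWX.1.le (hch hWX hWQ hWQ) hgA
    have hj : Cfsg.iterCommutator Y (zpowers g) 3 ≤ Y' := hA.cubic S.2 (hYW.trans hWN)
      (fun v hv => habs v (hWN (hYW hv))) (hch hYY' hYQ le_rfl) hYY'.1.le (hch hYY' hYQ hYQ) hgA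
    refine ConjFun.iterCommutator_le_of_le (by omega : 5 ≤ p - 1) (engel_of_pairing hUV.1.le hUU htop
      hYY'.2.2.1 (fun h => hYY'.1.not_ge h) (hch hYY' hYQ hYQ) (hch hYY' hYQ hUQ) (hch hYY' hYQ hWQ)
      (fun a ha x hx => commutator_mem_commutator hx ha) (fun a ha x hx => ?_) g (by omega) hi hj)
    rw [commutatorElement_eq_one_iff_mul_comm.2 (hXU ha x hx)]
    exact one_mem Y'

end Cfsg.Agent.JTransfer
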