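import Cfsg.Agent.Lib.JTransfer.Layers
import Cfsg.Agent.Lib.ConjFun.Sections
import Cfsg.Agent.Lib.PComplement.GlaubermanThompson
import Cfsg.Agent.Lib.Transfer.TateRelative

/-!
# `N(J(S))` controls transfer for `p ≥ 7`

`J` is generated by the abelian subgroups of largest order.

* `inf_commutator_eq`: `S ⊓ G' = S ⊓ N(J(S))'`;
* `pQuotient_equiv`: `G / O^p(G) ≅ M / O^p(M)` for `S ≤ M` with `S ⊓ G' = S ⊓ M'`.
-/

set_option autoImplicit false
set_option linter.style.haveILetI false

namespace Cfsg.Agent.JTransfer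

open Subgroup PComplement
open scoped commutatorElement

universe u

variable {p : ℕ} [Fact p.Prime]

theorem controls_jA (hp : 7 ≤ p) {G : Type u} [Group G] [Finite G] (X : Type u) [Group X]
    (hX : Cfsg.Involves X G) : ConjFun.Controls p {jAFunctor.{u}} X := by
  have h𝓦 : ∀ V ∈ ({jAFunctor.{u}} : Set (∀ (Q : Type u) [Group Q], Subgroup Q)),
      Cfsg.IsCharPFunctor.{u} p V := by
    rintro V rfl
    exact isCharPFunctor_jA
  refine ConjFun.controls_of_sections h𝓦 ?_ X hX
  intro K R _ IH _ S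
  set T := ↥K ⧸ R.subgroupOf K
  by_contra hfail
  have hne : ({jAFunctor.{u}} : Set (∀ (Q : Type u) [Group Q], Subgroup Q)).Nonempty := Set.singleton_nonempty _
  obtain ⟨hMtop, huniq, -, -, hNSM, -⟩ := ConjFun.failure_structure h𝓦 hne IH S hfail
  set D := ConjFun.transferGen (ConjFun.inducedFamily {jAFunctor.{u}} T) (S : Subgroup T) with hD
  have hex : ∃ A, PGroup.IsMaxAb (S : Subgroup T) A ∧ ¬ A ≤ Cfsg.pCore p T := by
    by_contra hc
    push_neg at hc
    refine hfail (ConjFun.pCore_inf_commutator_le_of_normal h𝓦 (Set.mem_singleton _) S ?_)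
    show (Cfsg.thompsonSubgroupAOf (S : Subgroup T)).Normal
    have hJ : Cfsg.thompsonSubgroupAOf (S : Subgroup T) ≤ Cfsg.pCore p T := by
      rw [PGroup.thompsonSubgroupAOf_eq]
      exact sSup_le fun A hA => hc A hA
    rw [← PGroup.thompsonSubgroupAOf_eq_of_le hJ (PCore.pCore_le_sylow S)]
    refine normalizer_eq_top_iff.1 (top_le_iff.1 ?_)
    exact (normalizer_eq_top (H := Cfsg.pCore p T)).ge.trans (PGroup.normalizer_le_normalizer_thompsonAOf _)
  obtain ⟨U, V, hUV, hUP, hVD, hUD, htop⟩ :=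
    exists_top_factor (P := Cfsg.pCore p T ⊓ commutator T) inferInstance hfail
  obtain ⟨g, hgS, hgQ, hg⟩ := exists_engel hp hMtop (Subgroup.le_normalizer.trans hNSM) huniq hex hUV
    (hUP.trans inf_le_left) htop
  exact ConjFun.not_engel_factor h𝓦 hne IH S hfail hUV hUP hVD hUD hgS hgQ hg

theorem inf_commutator_eq (hp : 7 ≤ p) {G : Type u} [Group G] [Finite G] (S : Sylow p G) :
    (S : Subgroup G) ⊓ commutator G = (S : Subgroup G) ⊓
      ⁅normalizer (Cfsg.thompsonSubgroupAOf (S : Subgroup G) : Set G),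
        normalizer (Cfsg.thompsonSubgroupAOf (S : Subgroup G) : Set G)⁆ := by
  refine le_antisymm ?_ (inf_le_inf_left _ (commutator_mono le_top le_top))
  have h := controls_jA hp G (ConjFun.involves_refl G) S
  rw [ConjFun.transferGen_inducedFamily, iSup_singleton] at h
  exact h

theorem sylow_inf_commutator_le {G : Type u} [Group G] [Finite G] {S : Sylow p G} {M : Subgroup G}
    (hSM : (S : Subgroup G) ≤ M) (T : Sylow p ↥M) (hTS : (T : Subgroup ↥M) = (S : Subgroup G).subgroupOf M)
    {x : ↥(S : Subgroup G)} {y : ↥M} (hy : y ∈ commutator ↥M) (hyx : (y : G) = x) :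
    x ∈ ((Cfsg.pResidual p ↥M).map M.subtype).subgroupOf (S : Subgroup G) ⊔ frattini ↥(S : Subgroup G) := by
  haveI := Transfer.pResidual_normal (G := ↥M) p
  set N := Cfsg.pResidual p ↥M with hN
  set π := QuotientGroup.mk' N with hπ
  have htop : (T : Subgroup ↥M).map π = ⊤ := by
    rw [← map_top_of_surjective π (QuotientGroup.mk'_surjective N), ← Transfer.sylow_sup_pResidual_eq_top T,
      Subgroup.map_sup, QuotientGroup.map_mk'_self, sup_bot_eq]
  have h1 : y ∈ ((⁅(T : Subgroup ↥M), (T : Subgroup ↥M)⁆).map π).comap π := by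
    rw [mem_comap, map_commutator, htop]
    have h := Subgroup.mem_map_of_mem π hy
    rw [commutator_def, map_commutator] at h
    exact commutator_mono le_top le_top h
  rw [comap_map_eq, QuotientGroup.ker_mk'] at h1
  obtain ⟨t, ht, n, hn, htn⟩ := mem_sup_of_normal_right.1 h1
  have htS : (t : G) ∈ (S : Subgroup G) := hTS.le (commutator_le.2 (fun a ha b hb =>
    mul_mem (mul_mem (mul_mem ha hb) (inv_mem ha)) (inv_mem hb)) ht)
  have hnS : (n : G) ∈ (S : Subgroup G) := by
    have e : (n : G) = (t : G)⁻¹ * (x : G) := by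
      rw [← hyx, ← htn]; simp
    rw [e]
    exact mul_mem (inv_mem htS) x.2
  have hx : x = ⟨t, htS⟩ * ⟨n, hnS⟩ := Subtype.ext (by
    show (x : G) = (t : G) * n
    rw [← hyx, ← htn, Subgroup.coe_mul])
  rw [hx]
  refine mul_mem (mem_sup_right (PGroup.commutator_le_frattini S.2 ?_))
    (mem_sup_left (show (n : G) ∈ N.map M.subtype from ⟨n, hn, rfl⟩))
  have h2 : (t : G) ∈ ⁅(S : Subgroup G), (S : Subgroup G)⁆ := by
    have h3 := Subgroup.mem_map_of_mem M.subtype ht
    rw [map_commutator, hTS, map_subgroupOf_eq_of_le hSM] at h3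
    exact h3
  rw [← Subgroup.map_subtype_commutator] at h2
  obtain ⟨z, hz, hze⟩ := h2
  rwa [show (⟨t, htS⟩ : ↥(S : Subgroup G)) = z from Subtype.ext hze.symm]

/-- Equal transfer gives equal largest `p`-factor groups. -/
theorem pQuotient_equiv {G : Type u} [Group G] [Finite G] (S : Sylow p G) {M : Subgroup G}
    (hSM : (S : Subgroup G) ≤ M) (h : (S : Subgroup G) ⊓ commutator G ≤ ⁅M, M⁆)
    [hn : (Cfsg.pResidual p G).Normal] [hm : (Cfsg.pResidual p ↥M).Normal] :
    Nonempty (G ⧸ Cfsg.pResidual p G ≃* ↥M ⧸ Cfsg.pResidual p ↥M) := by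
  set π := QuotientGroup.mk' (Cfsg.pResidual p G) with hπ
  set f : ↥M →* G ⧸ Cfsg.pResidual p G := π.comp M.subtype with hf
  have hker : f.ker = (Cfsg.pResidual p G).subgroupOf M := by
    ext x
    exact QuotientGroup.eq_one_iff (N := Cfsg.pResidual p G) (x : G)
  -- a Sylow subgroup of `M`
  set T : Sylow p ↥M := S.subtype hSM with hT
  have hTS : (T : Subgroup ↥M) = (S : Subgroup G).subgroupOf M := by rw [hT, Sylow.coe_subtype]
  have hres : (Cfsg.pResidual p ↥M).map M.subtype ≤ Cfsg.pResidual p G :=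
    Transfer.map_residual_subtype_le M p
  -- Tate
  have hTate : (S : Subgroup G) ⊓ Cfsg.pResidual p G ≤ (Cfsg.pResidual p ↥M).map M.subtype := by
    set R := ((Cfsg.pResidual p ↥M).map M.subtype).subgroupOf (S : Subgroup G) with hR
    haveI : R.Normal := by
      refine ⟨fun x hx s => ?_⟩
      obtain ⟨y, hy, hyx⟩ := hx
      exact ⟨⟨s, hSM s.2⟩ * y * ⟨s, hSM s.2⟩⁻¹, hm.conj_mem y hy _, by
        show (s : G) * (y : G) * (s : G)⁻¹ = _
        rw [show (y : G) = (x : G) from hyx]
        rfl⟩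
    have hab : Cfsg.pResidual p G ⊓ (S : Subgroup G) ≤ commutator G := by
      intro x hx
      have h1 : Abelianization.of x ∈ Cfsg.pResidual p (Abelianization G) :=
        Transfer.map_residual_le Abelianization.of p ⟨x, hx.1, rfl⟩
      have h2 : Cfsg.pResidual p (Abelianization G) ≤
          { carrier := {a | (orderOf a).Coprime p}
            one_mem' := by simp
            mul_mem' := fun {a b} ha hb =>
              (Nat.Coprime.mul_left ha hb).coprime_dvd_left (Commute.all a b).orderOf_mul_dvd_mul_orderOf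
            inv_mem' := fun {a} ha => by simpa using ha } :=
        (closure_le _).2 fun a ha => ha
      obtain ⟨k, hk⟩ := S.2 ⟨x, hx.2⟩
      have h3 : orderOf (Abelianization.of x) = 1 := Nat.eq_one_of_dvd_coprimes
        (((h2 h1 : (orderOf _).Coprime p)).pow_right k) dvd_rfl
        (orderOf_dvd_of_pow_eq_one (by
          rw [← map_pow, show x ^ p ^ k = 1 from congrArg Subtype.val hk, map_one]))
      rw [← Abelianization.ker_of G]
      exact orderOf_eq_one_iff.1 h3
    have hle : (Cfsg.pResidual p G).subgroupOf (S : Subgroup G) ≤ R ⊔ frattini ↥(S : Subgroup G) := by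
      intro x hx
      have h1 : (x : G) ∈ ⁅M, M⁆ := h ⟨x.2, hab ⟨hx, x.2⟩⟩
      rw [← Subgroup.map_subtype_commutator] at h1
      obtain ⟨y, hy, hyx⟩ := h1
      exact sylow_inf_commutator_le hSM T hTS hy hyx
    intro x hx
    exact Transfer.inf_pResidual_le_of_le_sup_frattini S R (fun y hy => hres hy) hle
      (show (⟨x, hx.1⟩ : ↥(S : Subgroup G)) ∈ (Cfsg.pResidual p G).subgroupOf _ from hx.2)
  have hker' : f.ker = Cfsg.pResidual p ↥M := by
    refine le_antisymm (fun x hx => ?_) ?_
    · have hxG : (x : G) ∈ Cfsg.pResidual p G := hker.le hx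
      have hxtop : x ∈ (T : Subgroup ↥M) ⊔ Cfsg.pResidual p ↥M := by
        rw [Transfer.sylow_sup_pResidual_eq_top]; exact mem_top x
      obtain ⟨s, hs, r, hr, rfl⟩ := mem_sup_of_normal_right.1 hxtop
      have hs' : (s : G) ∈ Cfsg.pResidual p G := by
        have := mul_mem hxG (inv_mem (hres ⟨r, hr, rfl⟩))
        simpa using this
      obtain ⟨y, hy, hys⟩ := hTate ⟨hTS.le hs, hs'⟩
      exact mul_mem (Subtype.ext (hys : (y : G) = s) ▸ hy) hr
    · exact fun x hx => hker.ge (hres ⟨x, hx, rfl⟩)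
  have hsurj : Function.Surjective f := by
    intro q
    obtain ⟨g, rfl⟩ := QuotientGroup.mk'_surjective _ q
    have hg : g ∈ (S : Subgroup G) ⊔ Cfsg.pResidual p G := by
      rw [Transfer.sylow_sup_pResidual_eq_top]; exact mem_top g
    obtain ⟨s, hs, r, hr, rfl⟩ := mem_sup_of_normal_right.1 hg
    refine ⟨⟨s, hSM hs⟩, ?_⟩
    show π s = π (s * r)
    rw [map_mul, show π r = 1 from (QuotientGroup.eq_one_iff r).2 hr, mul_one]
  exact ⟨(QuotientGroup.quotientKerEquivOfSurjective f hsurj).symm.trans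
    (QuotientGroup.quotientMulEquivOfEq hker')⟩

end Cfsg.Agent.JTransfer
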