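import Cfsg.Agent.Lib.PGroup.Thompson
import Cfsg.Agent.Lib.Coprime.Factorization
import Cfsg.Agent.Lib.Coprime.Commutator
import Cfsg.Agent.Lib.ConjFun.Degree

/-!
# Replacement for abelian subgroups of largest order outside `Q`

`A ≤ S` is abelian of largest order, `N ≤ Q` is normalized by `S`, and among those not inside `Q` the
subgroup `A` has the largest intersections with `E` and then with `N`, where `⁅N, N⁆ ≤ E ≤ C(N)`
(`Repl`).  For `v ∈ N` whose commutators with `A` commute, `M = ⟨⁅v, a⁆⟩`: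

* `IsMaxAb.swap`: `M ⊔ (A ⊓ C(M))` is again of largest order, `a ↦ ⁅v, a⁆` covers `M` modulo `A`;
* `Repl.dichotomy`: `M ≤ A` or `A ⊓ C(M) ≤ Q`;
* `Repl.quadratic`: `A` acts quadratically on `N ∩ C(Q)`;
* `Repl.double_commutator`: `⁅⁅v, g⁆, h⁆ ∈ ⁅v, A ∩ Q⁆ A`;
* `Repl.cubic`: degree three on the chief factors below `N` if `N` is abelian.
-/

set_option autoImplicit false

namespace Cfsg.Agent.JTransfer

open Subgroup PGroup
open scoped commutatorElement

universe u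

variable {G : Type u} [Group G]

/-- The subgroup generated by the commutators of `v` with the elements of `A`. -/
def mset (v : G) (A : Subgroup G) : Subgroup G :=
  closure {x | ∃ a ∈ A, ⁅v, a⁆ = x}

theorem mem_mset {v : G} {A : Subgroup G} {a : G} (ha : a ∈ A) : ⁅v, a⁆ ∈ mset v A :=
  subset_closure ⟨a, ha, rfl⟩

theorem mset_le {v : G} {A H : Subgroup G} (h : ∀ a ∈ A, ⁅v, a⁆ ∈ H) : mset v A ≤ H :=
  (closure_le H).2 (by rintro _ ⟨a, ha, rfl⟩; exact h a ha)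

theorem conj_mem_mset {v : G} {A : Subgroup G} {a x : G} (ha : a ∈ A) (hx : x ∈ mset v A) :
    a * x * a⁻¹ ∈ mset v A := by
  have h : mset v A ≤ (mset v A).comap (MulAut.conj a).toMonoidHom := mset_le fun b hb => by
    show a * ⁅v, b⁆ * a⁻¹ ∈ mset v A
    rw [show a * ⁅v, b⁆ * a⁻¹ = ⁅v, a⁆⁻¹ * ⁅v, a * b⁆ by simp [commutatorElement_def, mul_assoc]]
    exact mul_mem (inv_mem (mem_mset ha)) (mem_mset (mul_mem ha hb))
  exact h hx

theorem le_normalizer_mset (v : G) (A : Subgroup G) : A ≤ normalizer (mset v A : Set G) := fun a ha => by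
  rw [mem_normalizer_iff]
  refine fun x => ⟨conj_mem_mset ha, fun hx => ?_⟩
  simpa [mul_assoc] using conj_mem_mset (inv_mem ha) hx

theorem comm_mem_mset {v : G} {A : Subgroup G} {a x : G} (ha : a ∈ A) (hx : x ∈ mset v A) :
    ⁅x, a⁆ ∈ mset v A := by
  rw [show ⁅x, a⁆ = x * (a * x⁻¹ * a⁻¹) by simp [commutatorElement_def, mul_assoc]]
  exact mul_mem hx (conj_mem_mset ha (inv_mem hx))

/-- The commutators of `v` with `A` commute. -/
def AbSet (v : G) (A : Subgroup G) : Prop :=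
  IsMulCommutative ↥(mset v A)

theorem absSet_of_forall {v : G} {A : Subgroup G}
    (h : ∀ a ∈ A, ∀ b ∈ A, ⁅v, a⁆ * ⁅v, b⁆ = ⁅v, b⁆ * ⁅v, a⁆) : AbSet v A := by
  have h1 : ∀ a ∈ A, mset v A ≤ centralizer ({⁅v, a⁆} : Set G) := fun a ha => mset_le fun b hb =>
    mem_centralizer_singleton_iff.2 (h b hb a ha)
  exact PGroup.isMulCommutative_of_forall fun x hx y hy => by
    have h2 : mset v A ≤ centralizer ({x} : Set G) := mset_le fun a ha =>
      mem_centralizer_singleton_iff.2 (mem_centralizer_singleton_iff.1 (h1 a ha hx)).symm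
    exact (mem_centralizer_singleton_iff.1 (h2 hy)).symm

theorem absSet_of_le {v : G} {A N : Subgroup G} (hN : IsMulCommutative ↥N) (h : mset v A ≤ N) :
    AbSet v A :=
  PGroup.isMulCommutative_of_forall fun _ hx _ hy => mul_comm_of_isMulCommutative hN (h hx) (h hy)

section Identities

variable {v : G} {A : Subgroup G} (hA : IsMulCommutative ↥A) (hM : AbSet v A)
include hA hM

omit hA in
theorem comm_mul {x y a : G} (hx : x ∈ mset v A) (hy : y ∈ mset v A) (ha : a ∈ A) :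
    ⁅x * y, a⁆ = ⁅x, a⁆ * ⁅y, a⁆ := by
  have hc := mul_comm_of_isMulCommutative hM (mul_mem hx (comm_mem_mset ha hy)) (inv_mem hx)
  calc ⁅x * y, a⁆ = x * ⁅y, a⁆ * x⁻¹ * ⁅x, a⁆ := by simp [commutatorElement_def, mul_assoc]
    _ = ⁅y, a⁆ * ⁅x, a⁆ := by rw [hc, inv_mul_cancel_left]
    _ = ⁅x, a⁆ * ⁅y, a⁆ := mul_comm_of_isMulCommutative hM (comm_mem_mset ha hy) (comm_mem_mset ha hx)

/-- `⁅⁅v, b⁆, a⁆ = ⁅⁅v, a⁆, b⁆`. -/
theorem comm_comm_symm {a b : G} (ha : a ∈ A) (hb : b ∈ A) : ⁅⁅v, b⁆, a⁆ = ⁅⁅v, a⁆, b⁆ := by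
  have hab := mul_comm_of_isMulCommutative hA ha hb
  set x := ⁅v, a⁆ with hxd
  set y := ⁅v, b⁆ with hyd
  set x' := b * x * b⁻¹ with hx'd
  set y' := a * y * a⁻¹ with hy'd
  have e : x * y' = y * x' := by
    have h1 : ⁅v, a * b⁆ = x * y' := by simp [hy'd, hxd, hyd, commutatorElement_def, mul_assoc]
    have h2 : ⁅v, b * a⁆ = y * x' := by simp [hx'd, hxd, hyd, commutatorElement_def, mul_assoc]
    rw [← h1, ← h2, hab]
  have hx : x ∈ mset v A := mem_mset ha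
  have hy : y ∈ mset v A := mem_mset hb
  have hy' : y' ∈ mset v A := conj_mem_mset ha hy
  have hx' : x' ∈ mset v A := conj_mem_mset hb hx
  have e1 : ⁅y, a⁆ = y * y'⁻¹ := by simp [hy'd, commutatorElement_def, mul_assoc]
  have e2 : ⁅x, b⁆ = x * x'⁻¹ := by simp [hx'd, commutatorElement_def, mul_assoc]
  have hc1 := mul_comm_of_isMulCommutative hM (inv_mem hy') hx'
  have hc2 := mul_comm_of_isMulCommutative hM hy' (inv_mem hy')
  rw [e1, e2, eq_mul_inv_iff_mul_eq, mul_assoc, hc1, ← mul_assoc, ← e, mul_assoc, mul_inv_cancel, mul_one]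

/-- The operators `x ↦ ⁅x, a⁆` commute on `M`. -/
theorem comm_swap {x a b : G} (hx : x ∈ mset v A) (ha : a ∈ A) (hb : b ∈ A) :
    ⁅⁅x, b⁆, a⁆ = ⁅⁅x, a⁆, b⁆ := by
  have h1 : ⁅x, b⁆ = x * (b * x⁻¹ * b⁻¹) := by simp [commutatorElement_def, mul_assoc]
  have hab := mul_comm_of_isMulCommutative hA ha hb
  rw [h1, comm_mul hM hx (conj_mem_mset hb (inv_mem hx)) ha]
  have h2 : ⁅b * x⁻¹ * b⁻¹, a⁆ = b * ⁅x⁻¹, a⁆ * b⁻¹ := by
    have hcm : b * a * b⁻¹ = a := by rw [← hab, mul_inv_cancel_right]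
    conv_lhs => rw [← hcm]
    exact (map_commutatorElement (MulAut.conj b).toMonoidHom x⁻¹ a).symm
  have h3 : ⁅x⁻¹, a⁆ = ⁅x, a⁆⁻¹ := by
    refine eq_inv_of_mul_eq_one_left ?_
    rw [← comm_mul hM (inv_mem hx) hx ha, inv_mul_cancel, commutatorElement_one_left]
  rw [h2, h3]
  simp [commutatorElement_def, mul_assoc]

/-- If `⁅v, c⁆ ∈ A` then `c` centralizes `M`. -/
theorem mem_centralizer_of_comm_mem {c : G} (hc : c ∈ A) (h : ⁅v, c⁆ ∈ A) :
    c ∈ centralizer (mset v A : Set G) := by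
  have key : mset v A ≤ centralizer ({c} : Set G) := mset_le fun d hd => by
    have h1 := comm_comm_symm hA hM hd hc
    rw [commutatorElement_eq_one_iff_mul_comm.2 (mul_comm_of_isMulCommutative hA h hd)] at h1
    exact mem_centralizer_singleton_iff.2 (commutatorElement_eq_one_iff_mul_comm.1 h1.symm)
  exact fun x hx => mem_centralizer_singleton_iff.1 (key hx)

/-- `a ↦ ⁅v, a⁆` separates the cosets of `A ⊓ C(M)` modulo `A`. -/
theorem inv_mul_mem_centralizer {a b : G} (ha : a ∈ A) (hb : b ∈ A) (h : ⁅v, a⁆⁻¹ * ⁅v, b⁆ ∈ A) :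
    a⁻¹ * b ∈ centralizer (mset v A : Set G) := by
  have hc : a⁻¹ * b ∈ A := mul_mem (inv_mem ha) hb
  refine mem_centralizer_of_comm_mem hA hM hc ?_
  have e : a * ⁅v, a⁻¹ * b⁆ * a⁻¹ = ⁅v, a⁆⁻¹ * ⁅v, b⁆ := by simp [commutatorElement_def, mul_assoc]
  have := mul_mem (mul_mem (inv_mem ha) (e ▸ h)) ha
  simpa [mul_assoc] using this

variable [Finite G]

theorem relIndex_centralizer_le :
    (A ⊓ centralizer (mset v A : Set G)).relIndex A ≤ A.relIndex (mset v A) := by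
  classical
  let g : ↥A ⧸ (A ⊓ centralizer (mset v A : Set G)).subgroupOf A → ↥(mset v A) ⧸ A.subgroupOf (mset v A) :=
    fun q => (⟨⁅v, ((q.out : ↥A) : G)⁆, mem_mset q.out.2⟩ : ↥(mset v A))
  refine Nat.card_le_card_of_injective g fun p q hpq => ?_
  have h1 := mem_subgroupOf.1 (QuotientGroup.eq.1 hpq)
  rw [← QuotientGroup.out_eq' p, ← QuotientGroup.out_eq' q]
  exact QuotientGroup.eq.2 (mem_subgroupOf.2 (mem_inf.2
    ⟨mul_mem (inv_mem p.out.2) q.out.2, inv_mul_mem_centralizer hA hM p.out.2 q.out.2 h1⟩))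

theorem exists_of_relIndex_eq
    (h : A.relIndex (mset v A) ≤ (A ⊓ centralizer (mset v A : Set G)).relIndex A) {m : G}
    (hm : m ∈ mset v A) : ∃ a ∈ A, ⁅v, a⁆⁻¹ * m ∈ A := by
  classical
  let g : ↥A ⧸ (A ⊓ centralizer (mset v A : Set G)).subgroupOf A → ↥(mset v A) ⧸ A.subgroupOf (mset v A) :=
    fun q => (⟨⁅v, ((q.out : ↥A) : G)⁆, mem_mset q.out.2⟩ : ↥(mset v A))
  have hinj : Function.Injective g := fun p q hpq => by
    have h1 := mem_subgroupOf.1 (QuotientGroup.eq.1 hpq)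
    rw [← QuotientGroup.out_eq' p, ← QuotientGroup.out_eq' q]
    exact QuotientGroup.eq.2 (mem_subgroupOf.2 (mem_inf.2
      ⟨mul_mem (inv_mem p.out.2) q.out.2, inv_mul_mem_centralizer hA hM p.out.2 q.out.2 h1⟩))
  obtain ⟨q, hq⟩ := (Function.Injective.bijective_of_nat_card_le hinj h).2
    (⟨m, hm⟩ : ↥(mset v A))
  exact ⟨_, q.out.2, mem_subgroupOf.1 (QuotientGroup.eq.1 hq)⟩

omit [Finite G] in
theorem inf_inf_centralizer :
    mset v A ⊓ (A ⊓ centralizer (mset v A : Set G)) = mset v A ⊓ A :=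
  le_antisymm (inf_le_inf_left _ inf_le_left) (le_inf inf_le_left (le_inf inf_le_right
    (inf_le_left.trans (PGroup.le_centralizer_of_isMulCommutative hM))))

end Identities

/-- `|X ⊔ D| = |X : X ∩ A| |D|` for commuting `X`, `D` with `X ∩ D = X ∩ A`. -/
theorem card_sup_eq [Finite G] {X D A : Subgroup G} (h : X ≤ centralizer (D : Set G))
    (hi : X ⊓ D = X ⊓ A) : Nat.card ↥(X ⊔ D) = A.relIndex X * Nat.card ↥D := by
  have h1 : D.relIndex (X ⊔ D) = D.relIndex X :=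
    Coprime.relIndex_sup_right_of_le_normalizer (h.trans (centralizer_le_normalizer _))
  have h2 : D.relIndex X = A.relIndex X := by
    rw [← inf_relIndex_right D X, inf_comm, hi, inf_comm, inf_relIndex_right]
  rw [← h2, ← h1, relIndex, mul_comm, ← Coprime.card_subgroupOf (le_sup_right : D ≤ X ⊔ D)]
  exact (card_mul_index _).symm

theorem isMulCommutative_sup {X D : Subgroup G} (hX : IsMulCommutative ↥X) (hD : IsMulCommutative ↥D)
    (h : X ≤ centralizer (D : Set G)) : IsMulCommutative ↥(X ⊔ D) := by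
  refine PGroup.isMulCommutative_of_forall ?_
  have h' : D ≤ centralizer (X : Set G) := le_centralizer_iff.1 h
  have h1 : X ⊔ D ≤ centralizer ((X : Set G) ∪ D) := by
    refine sup_le (fun x hx => ?_) (fun x hx => ?_)
    · rintro y (hy | hy)
      · exact mul_comm_of_isMulCommutative hX hy hx
      · exact h hx y hy
    · rintro y (hy | hy)
      · exact h' hx y hy
      · exact mul_comm_of_isMulCommutative hD hy hx
  intro a ha b hb
  have h2 : X ⊔ D ≤ centralizer ({a} : Set G) := sup_le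
    (fun x hx => mem_centralizer_singleton_iff.2 (h1 ha x (Or.inl hx)))
    (fun x hx => mem_centralizer_singleton_iff.2 (h1 ha x (Or.inr hx)))
  exact (mem_centralizer_singleton_iff.1 (h2 hb)).symm

variable [Finite G]

theorem mem_of_centralizes {S A : Subgroup G} (hA : IsMaxAb S A) {x : G} (hxS : x ∈ S)
    (hx : x ∈ centralizer (A : Set G)) : x ∈ A := by
  rw [← inf_centralizer_eq_of_isMaxAb hA]
  exact ⟨hxS, hx⟩

/-- The replacement `M ⊔ (A ⊓ C(M))`. -/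
theorem swap {S A : Subgroup G} (hA : IsMaxAb S A) {v : G} (hM : AbSet v A) (hMS : mset v A ≤ S) :
    IsMaxAb S (mset v A ⊔ (A ⊓ centralizer (mset v A : Set G))) ∧
      (A ⊓ centralizer (mset v A : Set G)).relIndex A = A.relIndex (mset v A) := by
  set M := mset v A with hMd
  set D := A ⊓ centralizer (M : Set G) with hD
  have hcomm : M ≤ centralizer (D : Set G) := le_centralizer_iff.1 inf_le_right
  have hD' : IsMulCommutative ↥D := PGroup.isMulCommutative_of_forall fun a ha b hb =>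
    mul_comm_of_isMulCommutative hA.2.1 ha.1 hb.1
  have habel := isMulCommutative_sup hM hD' hcomm
  have hle : M ⊔ D ≤ S := sup_le hMS (inf_le_left.trans hA.1)
  have hcard := card_sup_eq (A := A) hcomm (inf_inf_centralizer hA.2.1 hM)
  have hcA : Nat.card ↥A = D.relIndex A * Nat.card ↥D := by
    rw [← Coprime.card_subgroupOf (inf_le_left : D ≤ A), relIndex, mul_comm]
    exact (card_mul_index _).symm
  have hr := relIndex_centralizer_le hA.2.1 hM
  have h1 := hA.2.2 _ hle habel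
  rw [hcard, hcA] at h1
  have h2 := Nat.le_antisymm hr (Nat.le_of_mul_le_mul_right h1 Nat.card_pos)
  refine ⟨⟨hle, habel, fun B hB hBc => ?_⟩, h2⟩
  rw [hcard, ← h2, ← hcA]
  exact hA.2.2 B hB hBc

theorem exists_cover {S A : Subgroup G} (hA : IsMaxAb S A) {v : G} (hM : AbSet v A)
    (hMS : mset v A ≤ S) {m : G} (hm : m ∈ mset v A) : ∃ a ∈ A, ⁅v, a⁆⁻¹ * m ∈ A :=
  exists_of_relIndex_eq hA.2.1 hM (swap hA hM hMS).2.ge hm

/-- `A` is chosen for `(N, E)`. -/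
structure Repl (S Q A N E : Subgroup G) : Prop where
  hA : IsMaxAb S A
  hQS : Q ≤ S
  hNQ : N ≤ Q
  hN : S ≤ normalizer (N : Set G)
  hQn : S ≤ normalizer (Q : Set G)
  hE : ⁅N, N⁆ ≤ E
  hEN : E ≤ centralizer (N : Set G)
  hAQ : ¬ A ≤ Q
  maxE : ∀ B, IsMaxAb S B → ¬ B ≤ Q → Nat.card ↥(B ⊓ E) ≤ Nat.card ↥(A ⊓ E)
  maxN : ∀ B, IsMaxAb S B → ¬ B ≤ Q → Nat.card ↥(B ⊓ E) = Nat.card ↥(A ⊓ E) →
    Nat.card ↥(B ⊓ N) ≤ Nat.card ↥(A ⊓ N)

theorem exists_repl {S Q N E : Subgroup G} (hQS : Q ≤ S) (hNQ : N ≤ Q)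
    (hN : S ≤ normalizer (N : Set G)) (hQn : S ≤ normalizer (Q : Set G)) (hE : ⁅N, N⁆ ≤ E) (hEN : E ≤ centralizer (N : Set G))
    (h : ∃ A, IsMaxAb S A ∧ ¬ A ≤ Q) : ∃ A, Repl S Q A N E := by
  obtain ⟨A₀, h₀⟩ := h
  obtain ⟨A₁, ⟨h1, h1'⟩, hm1⟩ := Set.exists_max_image {A | IsMaxAb S A ∧ ¬ A ≤ Q}
    (fun A => Nat.card ↥(A ⊓ E)) (Set.toFinite _) ⟨A₀, h₀⟩
  obtain ⟨A, ⟨⟨hA, hA'⟩, hAeq⟩, hm2⟩ := Set.exists_max_image
    {A | (IsMaxAb S A ∧ ¬ A ≤ Q) ∧ Nat.card ↥(A ⊓ E) = Nat.card ↥(A₁ ⊓ E)}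
    (fun A => Nat.card ↥(A ⊓ N)) (Set.toFinite _) ⟨A₁, ⟨h1, h1'⟩, rfl⟩
  exact ⟨A, hA, hQS, hNQ, hN, hQn, hE, hEN, hA',
    fun B hB hB' => hAeq ▸ hm1 B ⟨hB, hB'⟩,
    fun B hB hB' he => hm2 B ⟨⟨hB, hB'⟩, he.trans hAeq⟩⟩

variable {S Q A N E : Subgroup G}

omit [Finite G] in
theorem Repl.comm_mem (h : Repl S Q A N E) {v a : G} (hv : v ∈ N) (ha : a ∈ A) : ⁅v, a⁆ ∈ N := by
  rw [show ⁅v, a⁆ = v * (a * v⁻¹ * a⁻¹) by simp [commutatorElement_def, mul_assoc]]
  exact mul_mem hv ((mem_normalizer_iff.1 (h.hN (h.hA.1 ha)) _).1 (inv_mem hv))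

omit [Finite G] in
theorem Repl.mset_le (h : Repl S Q A N E) {v : G} (hv : v ∈ N) : mset v A ≤ N :=
  JTransfer.mset_le fun _ ha => h.comm_mem hv ha

omit [Finite G] in
theorem Repl.mset_le_sylow (h : Repl S Q A N E) {v : G} (hv : v ∈ N) : mset v A ≤ S :=
  (h.mset_le hv).trans (h.hNQ.trans h.hQS)

/-- `M ≤ A`, or the centralizer of `M` in `A` lies in `Q`. -/
theorem Repl.dichotomy (h : Repl S Q A N E) {v : G} (hv : v ∈ N) (hM : AbSet v A) :
    mset v A ≤ A ∨ A ⊓ centralizer (mset v A : Set G) ≤ Q := by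
  by_cases hDQ : A ⊓ centralizer (mset v A : Set G) ≤ Q
  · exact Or.inr hDQ
  refine Or.inl ?_
  set M := mset v A with hMd
  set A' := M ⊔ (A ⊓ centralizer (M : Set G)) with hA'
  obtain ⟨hmax, -⟩ := swap h.hA hM (h.mset_le_sylow hv)
  have hA'Q : ¬ A' ≤ Q := fun hle => hDQ (le_sup_right.trans hle)
  have hAE : A ⊓ E ≤ A' ⊓ E := le_inf (le_trans (le_inf inf_le_left
    (inf_le_right.trans (h.hEN.trans (centralizer_le (h.mset_le hv))))) le_sup_right) inf_le_right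
  have heqE : A' ⊓ E = A ⊓ E := (eq_of_le_of_card_ge hAE (h.maxE _ hmax hA'Q)).symm
  have hAN : A ⊓ N ≤ A' ⊓ N := by
    refine le_inf (fun c hc => (le_sup_right : _ ≤ A') ⟨hc.1, ?_⟩) inf_le_right
    refine mem_centralizer_of_comm_mem h.hA.2.1 hM hc.1 ?_
    have h1 : ⁅v, c⁆ ∈ A' ⊓ E :=
      ⟨(le_sup_left : M ≤ A') (mem_mset hc.1), h.hE (commutator_mem_commutator hv hc.2)⟩
    exact (heqE.le h1).1
  have heqN : A' ⊓ N = A ⊓ N :=
    (eq_of_le_of_card_ge hAN (h.maxN _ hmax hA'Q (by rw [heqE]))).symm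
  exact ((le_inf le_sup_left (h.mset_le hv)).trans heqN.le).trans inf_le_left

variable {p : ℕ} [Fact p.Prime]

/-- `A` acts quadratically on the elements of `N` centralizing `Q`. -/
theorem Repl.quadratic (h : Repl S Q A N E) (hS : IsPGroup p ↥S) {v : G} (hv : v ∈ N)
    (hvQ : v ∈ centralizer (Q : Set G)) {a b : G} (ha : a ∈ A) (hb : b ∈ A) :
    ⁅⁅v, a⁆, b⁆ = 1 := by
  have hMQ : mset v A ≤ centralizer (Q : Set G) := JTransfer.mset_le fun c hc q hq => by
    have hcq : c⁻¹ * q * c ∈ Q := by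
      simpa using (mem_normalizer_iff.1 (h.hQn (h.hA.1 (inv_mem hc))) q).1 hq
    have h1 : v⁻¹ * (c⁻¹ * q * c) = c⁻¹ * q * c * v⁻¹ :=
      ((inv_mem hvQ : v⁻¹ ∈ centralizer (Q : Set G)) _ hcq).symm
    calc q * ⁅v, c⁆ = q * v * (c * v⁻¹ * c⁻¹) := by simp [commutatorElement_def, mul_assoc]
      _ = v * (c * ((c⁻¹ * q * c) * v⁻¹) * c⁻¹) := by rw [hvQ q hq]; simp [mul_assoc]
      _ = v * (c * (v⁻¹ * (c⁻¹ * q * c)) * c⁻¹) := by rw [h1]
      _ = ⁅v, c⁆ * q := by simp [commutatorElement_def, mul_assoc]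
  have hMq : mset v A ≤ Q := (h.mset_le hv).trans h.hNQ
  have hM : AbSet v A := PGroup.isMulCommutative_of_forall fun x hx y hy => hMQ hy x (hMq hx)
  set M := mset v A with hMd
  have hMA : M ≤ A := by
    rcases h.dichotomy hv hM with h1 | h1
    · exact h1
    obtain ⟨hmax, -⟩ := swap h.hA hM (h.mset_le_sylow hv)
    have hvA' : v ∈ M ⊔ (A ⊓ centralizer (M : Set G)) :=
      mem_of_centralizes hmax (h.hQS (h.hNQ hv)) fun x hx => hvQ x (sup_le hMq h1 hx)
    obtain ⟨m, hm, d, hd, hmd⟩ := (Coprime.mem_sup_iff_of_le_normalizer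
      ((le_centralizer_iff.1 inf_le_right : M ≤ centralizer ((A ⊓ centralizer (M : Set G) : Subgroup G) : Set G)).trans
        (centralizer_le_normalizer _))).1 hvA'
    have hle : M ≤ ⁅M, A⁆ := JTransfer.mset_le fun c hc => by
      have e : ⁅v, c⁆ = ⁅m, c⁆ := by
        have hdc := mul_comm_of_isMulCommutative h.hA.2.1 hd.1 hc
        rw [← hmd, show ⁅m * d, c⁆ = m * (d * c) * d⁻¹ * m⁻¹ * c⁻¹ by
          simp [commutatorElement_def, mul_assoc], hdc, commutatorElement_def]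
        group
      rw [e]
      exact commutator_mem_commutator hm hc
    by_contra hne
    exact (Coprime.commutator_lt_of_isPGroup (hS.to_le h.hA.1) (hS.to_le (h.mset_le_sylow hv))
      (le_normalizer_mset v A) (fun e => hne (e.le.trans bot_le))).not_ge hle
  exact commutatorElement_eq_one_iff_mul_comm.2
    (mul_comm_of_isMulCommutative h.hA.2.1 (hMA (mem_mset ha)) hb)

/-- `⁅⁅v, g⁆, k⁆ ∈ ⁅v, A ∩ Q⁆ A`. -/
theorem Repl.double_commutator (h : Repl S Q A N E) (hS : IsPGroup p ↥S) {v : G} (hv : v ∈ N)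
    (hM : AbSet v A) {g k : G} (hg : g ∈ A) (hk : k ∈ A) :
    ∃ r ∈ A ⊓ Q, ⁅v, r⁆⁻¹ * ⁅⁅v, g⁆, k⁆ ∈ A := by
  have hAc := h.hA.2.1
  set M := mset v A with hMd
  rcases h.dichotomy hv hM with hMA | hDQ
  · refine ⟨1, one_mem _, ?_⟩
    have : ⁅⁅v, g⁆, k⁆ = 1 := commutatorElement_eq_one_iff_mul_comm.2
      (mul_comm_of_isMulCommutative hAc (hMA (mem_mset hg)) hk)
    simp [this]
  have hmM : ⁅⁅v, g⁆, k⁆ ∈ M := comm_mem_mset hk (mem_mset hg)
  obtain ⟨a, ha, haA⟩ := exists_cover h.hA hM (h.mset_le_sylow hv) hmM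
  by_cases haQ : a ∈ Q
  · exact ⟨a, ⟨ha, haQ⟩, haA⟩
  exfalso
  -- `⁅·, c⁆` of `⁅v, a⁆` and of `⁅⁅v, g⁆, k⁆` agree
  have hkey : ∀ c ∈ A, ⁅⁅v, a⁆, c⁆ = ⁅⁅⁅v, g⁆, k⁆, c⁆ := fun c hc => by
    have hz : ⁅v, a⁆⁻¹ * ⁅⁅v, g⁆, k⁆ ∈ M := mul_mem (inv_mem (mem_mset ha)) hmM
    have hzc : ⁅⁅v, a⁆⁻¹ * ⁅⁅v, g⁆, k⁆, c⁆ = 1 := commutatorElement_eq_one_iff_mul_comm.2
      (mul_comm_of_isMulCommutative hAc haA hc)
    calc ⁅⁅v, a⁆, c⁆ = ⁅⁅v, a⁆, c⁆ * ⁅⁅v, a⁆⁻¹ * ⁅⁅v, g⁆, k⁆, c⁆ := by rw [hzc, mul_one]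
      _ = _ := by rw [← comm_mul hM (mem_mset ha) hz hc, mul_inv_cancel_left]
  set M2 := ⁅M, A⁆ with hM2
  have hM2M : M2 ≤ M := commutator_le.2 fun x hx c hc => comm_mem_mset hc hx
  set M3 := ⁅M2, A⁆ with hM3
  have hM3M2 : M3 ≤ M2 := commutator_mono hM2M le_rfl
  set v' := ⁅v, a⁆ with hv'
  have hv'N : v' ∈ N := h.comm_mem hv ha
  set X := mset v' A with hX
  have hXM3 : X ≤ M3 := JTransfer.mset_le fun c hc => by
    rw [hkey c hc]
    exact commutator_mem_commutator (commutator_mem_commutator (mem_mset hg) hk) hc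
  have hXM : X ≤ M := hXM3.trans (hM3M2.trans hM2M)
  have hXab : AbSet v' A := absSet_of_le hM hXM
  -- the centralizer of `X` centralizes `M2`
  have hCX : A ⊓ centralizer (X : Set G) ≤ centralizer (M2 : Set G) := by
    intro r hr
    have hvr : ⁅v, r⁆ ∈ N := h.comm_mem hv hr.1
    have hYM : mset ⁅v, r⁆ A ≤ M := JTransfer.mset_le fun c hc => comm_mem_mset hc (mem_mset hr.1)
    have haY : a ∈ centralizer (mset ⁅v, r⁆ A : Set G) := by
      have hle : mset ⁅v, r⁆ A ≤ centralizer ({a} : Set G) := JTransfer.mset_le fun c hc => by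
        refine mem_centralizer_singleton_iff.2 (commutatorElement_eq_one_iff_mul_comm.1 ?_)
        rw [comm_swap hAc hM (mem_mset hr.1) ha hc, comm_comm_symm hAc hM ha hr.1,
          comm_swap hAc hM (mem_mset ha) hc hr.1]
        exact commutatorElement_eq_one_iff_mul_comm.2 (hr.2 _ (mem_mset hc))
      exact fun x hx => mem_centralizer_singleton_iff.1 (hle hx)
    have hYA : mset ⁅v, r⁆ A ≤ A :=
      (h.dichotomy hvr (absSet_of_le hM hYM)).resolve_right fun hle => haQ (hle ⟨ha, haY⟩)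
    have hM2r : M2 ≤ centralizer ({r} : Set G) := commutator_le.2 fun x hx c hc => by
      refine mem_centralizer_singleton_iff.2 (commutatorElement_eq_one_iff_mul_comm.1 ?_)
      induction hx using closure_induction with
      | mem y hy =>
        obtain ⟨d, hd, rfl⟩ := hy
        rw [comm_swap hAc hM (mem_mset hd) hr.1 hc, comm_comm_symm hAc hM hr.1 hd]
        exact commutatorElement_eq_one_iff_mul_comm.2
          (mul_comm_of_isMulCommutative hAc (hYA (mem_mset hd)) hc)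
      | one => simp
      | mul y z hy hz hy1 hz1 =>
        rw [comm_mul hM hy hz hc, comm_mul hM (comm_mem_mset hc hy) (comm_mem_mset hc hz) hr.1, hy1, hz1,
          one_mul]
      | inv y hy hy1 =>
        have h1 := congrArg (fun w => ⁅w, r⁆) (comm_mul hM hy (inv_mem hy) hc)
        simp only [mul_inv_cancel, commutatorElement_one_left,
          comm_mul hM (comm_mem_mset hc hy) (comm_mem_mset hc (inv_mem hy)) hr.1, hy1, one_mul] at h1
        exact h1.symm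
    exact fun x hx => mem_centralizer_singleton_iff.1 (hM2r hx)
  -- counting
  set D2 := A ⊓ centralizer (M2 : Set G) with hD2
  have hD2X : A ⊓ centralizer (X : Set G) = D2 := le_antisymm (le_inf inf_le_left hCX)
    (le_inf inf_le_left (inf_le_right.trans (centralizer_le (hXM3.trans hM3M2))))
  have hswap := (swap h.hA hXab (h.mset_le_sylow hv'N)).2
  rw [hD2X] at hswap
  have hM2ab : IsMulCommutative ↥M2 := PGroup.isMulCommutative_of_forall fun x hx y hy =>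
    mul_comm_of_isMulCommutative hM (hM2M hx) (hM2M hy)
  have hD2ab : IsMulCommutative ↥D2 := PGroup.isMulCommutative_of_forall fun x hx y hy =>
    mul_comm_of_isMulCommutative hAc hx.1 hy.1
  have hcom2 : M2 ≤ centralizer (D2 : Set G) := le_centralizer_iff.1 inf_le_right
  have hcard2 := card_sup_eq (A := A) hcom2 (le_antisymm (inf_le_inf_left _ inf_le_left)
    (le_inf inf_le_left (le_inf inf_le_right
      (inf_le_left.trans (PGroup.le_centralizer_of_isMulCommutative hM2ab)))))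
  have hcA : Nat.card ↥A = D2.relIndex A * Nat.card ↥D2 := by
    rw [← Coprime.card_subgroupOf (inf_le_left : D2 ≤ A), relIndex, mul_comm]
    exact (card_mul_index _).symm
  have hle2 : A.relIndex M2 ≤ A.relIndex X := by
    have h1 := h.hA.2.2 _ (sup_le ((hM2M.trans (h.mset_le hv)).trans (h.hNQ.trans h.hQS))
      (inf_le_left.trans h.hA.1)) (isMulCommutative_sup hM2ab hD2ab hcom2)
    rw [hcard2, hcA, hswap] at h1
    exact Nat.le_of_mul_le_mul_right h1 Nat.card_pos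
  have hXC : X ≤ centralizer ((A ⊓ M2 : Subgroup G) : Set G) := fun x hx y hy =>
    mul_comm_of_isMulCommutative hM2ab hy.2 (hM3M2 (hXM3 hx))
  have hcardX := card_sup_eq (A := A) hXC
    (le_antisymm (inf_le_inf_left _ inf_le_left)
      (le_inf inf_le_left (le_inf inf_le_right (inf_le_left.trans (hXM3.trans hM3M2)))))
  have hcardM2 : Nat.card ↥M2 = A.relIndex M2 * Nat.card ↥(A ⊓ M2) := by
    rw [← Coprime.card_subgroupOf (inf_le_right : A ⊓ M2 ≤ M2), inf_subgroupOf_right, relIndex, mul_comm]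
    exact (card_mul_index _).symm
  have hsup : X ⊔ (A ⊓ M2) = M2 := eq_of_le_of_card_ge (sup_le (hXM3.trans hM3M2) inf_le_right)
    (by rw [hcardX, hcardM2]; exact Nat.mul_le_mul_right _ hle2)
  have hM3self : M3 ≤ ⁅M3, A⁆ := commutator_le.2 fun x hx c hc => by
    obtain ⟨y, hy, z, hz, rfl⟩ := (Coprime.mem_sup_iff_of_le_normalizer
      (hXC.trans (centralizer_le_normalizer _))).1 (hsup.ge hx)
    rw [comm_mul hM (hXM hy) (hM2M hz.2) hc,
      commutatorElement_eq_one_iff_mul_comm.2 (mul_comm_of_isMulCommutative hAc hz.1 hc), mul_one]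
    exact commutator_mem_commutator (hXM3 hy) hc
  have hnorm : ∀ K : Subgroup G, A ≤ normalizer (K : Set G) → A ≤ normalizer ((⁅K, A⁆ : Subgroup G) : Set G) := by
    intro K hK c hc
    refine mem_normalizer_of_map_conj_eq ?_
    rw [map_commutator, ConjFun.conjMap_eq_self (hK hc), ConjFun.conjMap_eq_self (le_normalizer hc)]
  have hM3bot : M3 = ⊥ := by
    by_contra hne
    exact (Coprime.commutator_lt_of_isPGroup (hS.to_le h.hA.1)
      (hS.to_le (hM3M2.trans (hM2M.trans (h.mset_le_sylow hv))))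
      (hnorm _ (hnorm _ (le_normalizer_mset v A))) hne).not_ge hM3self
  refine haQ (hDQ ⟨ha, ?_⟩)
  have hle : M ≤ centralizer ({a} : Set G) := JTransfer.mset_le fun c hc => by
    refine mem_centralizer_singleton_iff.2 (commutatorElement_eq_one_iff_mul_comm.1 ?_)
    rw [comm_comm_symm hAc hM ha hc]
    have h1 : ⁅v', c⁆ ∈ M3 := hXM3 (mem_mset hc)
    rwa [hM3bot, mem_bot] at h1
  exact fun x hx => mem_centralizer_singleton_iff.1 (hle hx)

/-- Degree three on the chief factors below an abelian `N`. -/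
theorem Repl.cubic (h : Repl S Q A N E) (hS : IsPGroup p ↥S) {U V : Subgroup G} [U.Normal] [V.Normal]
    (hU : U ≤ N) (hab : ∀ v ∈ U, AbSet v A) (hUQ : ⁅U, Q⁆ ≤ V) (hVU : V ≤ U) (hUU : ⁅U, U⁆ ≤ V)
    {g : G} (hg : g ∈ A) : Cfsg.iterCommutator U (zpowers g) 3 ≤ V := by
  refine ConjFun.iterCommutator_le_of_iterate hVU hUU g 3 fun v hv => ?_
  obtain ⟨r, hr, hz⟩ := h.double_commutator hS (hU hv) (hab v hv) hg hg
  show ⁅⁅⁅v, g⁆, g⁆, g⁆ ∈ V
  have h1 : ⁅v, r⁆ ∈ V := hUQ (commutator_mem_commutator hv hr.2)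
  rw [show ⁅⁅v, g⁆, g⁆ = ⁅v, r⁆ * (⁅v, r⁆⁻¹ * ⁅⁅v, g⁆, g⁆) by rw [mul_inv_cancel_left]]
  generalize ⁅v, r⁆⁻¹ * ⁅⁅v, g⁆, g⁆ = z at hz ⊢
  have hzg : ⁅z, g⁆ = 1 :=
    commutatorElement_eq_one_iff_mul_comm.2 (mul_comm_of_isMulCommutative h.hA.2.1 hz hg)
  rw [show ⁅⁅v, r⁆ * z, g⁆ = ⁅v, r⁆ * ⁅z, g⁆ * ⁅v, r⁆⁻¹ * ⁅⁅v, r⁆, g⁆ by
    simp [commutatorElement_def, mul_assoc], hzg, mul_one, mul_inv_cancel, one_mul]
  exact commutator_le_left V _ (commutator_mem_commutator h1 (mem_zpowers g))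

end Cfsg.Agent.JTransfer
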