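import Cfsg.Agent.Lib.JTransfer.Replace

/-!
# The degree of a replaced subgroup on a section `W / E` with a central pairing into `C(Q)`

`W / E` is a section below `Q` centralized by `Q`, `⁅W, W⁆ ≤ E ≤ C(W)` (`Layer`), and `A` is chosen for
`(N, E')` with `W ≤ N`.

* `Layer.six`: `⁅W, A, A, A, A, A, A⁆ ≤ E`;
* `Layer.four`: four commutations suffice if some `θ` acts on `W / E` as an involution commuting with `A`
  such that `A` centralizes the elements of `⁅W, W⁆` fixed by `θ`.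
-/

set_option autoImplicit false

namespace Cfsg.Agent.JTransfer

open Subgroup PGroup
open scoped commutatorElement

universe u

variable {G : Type u} [Group G]

/-- The elements of `W ⊓ N(J)` moved by `A` into `J`. -/
def ann (W J A : Subgroup G) : Subgroup G where
  carrier := {x | x ∈ W ⊓ normalizer (J : Set G) ∧ ∀ a ∈ A, ⁅x, a⁆ ∈ J}
  one_mem' := ⟨one_mem _, fun a _ => by simp⟩
  mul_mem' {x y} hx hy := ⟨mul_mem hx.1 hy.1, fun a ha => by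
    rw [show ⁅x * y, a⁆ = x * ⁅y, a⁆ * x⁻¹ * ⁅x, a⁆ by simp [commutatorElement_def, mul_assoc]]
    exact mul_mem ((mem_normalizer_iff.1 hx.1.2 _).1 (hy.2 a ha)) (hx.2 a ha)⟩
  inv_mem' {x} hx := ⟨inv_mem hx.1, fun a ha => by
    rw [show ⁅x⁻¹, a⁆ = x⁻¹ * ⁅x, a⁆⁻¹ * x⁻¹⁻¹ by simp [commutatorElement_def, mul_assoc]]
    exact (mem_normalizer_iff.1 (inv_mem hx.1.2) _).1 (inv_mem (hx.2 a ha))⟩

/-- A section centralized by `Q` with a pairing into the centre. -/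
structure Layer (p : ℕ) (Q W E : Subgroup G) : Prop where
  hW : W.Normal
  hE : E.Normal
  hEW : E ≤ W
  hWQ : W ≤ Q
  hQE : ⁅W, Q⁆ ≤ E
  hEc : E ≤ centralizer (W : Set G)
  hYQ : ⁅W, W⁆ ≤ centralizer (Q : Set G)
  hpE : ∀ x ∈ W, x ^ p ∈ E

variable {p : ℕ} {Q W E : Subgroup G} (hl : Layer p Q W E)
include hl

theorem Layer.comm_le : ⁅W, W⁆ ≤ E :=
  (commutator_mono le_rfl hl.hWQ).trans hl.hQE

theorem Layer.comm_mem {x y : G} (hx : x ∈ W) (hy : y ∈ W) : ⁅x, y⁆ ∈ E :=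
  hl.comm_le (commutator_mem_commutator hx hy)

theorem Layer.central {e w : G} (he : e ∈ E) (hw : w ∈ W) : w * e = e * w :=
  hl.hEc he w hw

theorem Layer.bmul_left {x y z : G} (hx : x ∈ W) (hy : y ∈ W) (hz : z ∈ W) :
    ⁅x * y, z⁆ = ⁅x, z⁆ * ⁅y, z⁆ := by
  rw [show ⁅x * y, z⁆ = x * ⁅y, z⁆ * x⁻¹ * ⁅x, z⁆ by simp [commutatorElement_def, mul_assoc],
    hl.central (hl.comm_mem hy hz) hx, mul_inv_cancel_right]
  exact hl.central (hl.comm_mem hx hz) (hl.hEW (hl.comm_mem hy hz))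

theorem Layer.bmul_right {x y z : G} (hx : x ∈ W) (hy : y ∈ W) (hz : z ∈ W) :
    ⁅x, y * z⁆ = ⁅x, y⁆ * ⁅x, z⁆ := by
  rw [show ⁅x, y * z⁆ = ⁅x, y⁆ * (y * ⁅x, z⁆ * y⁻¹) by simp [commutatorElement_def, mul_assoc],
    hl.central (hl.comm_mem hx hz) hy, mul_inv_cancel_right]

theorem Layer.binv_left {x z : G} (hx : x ∈ W) (hz : z ∈ W) : ⁅x⁻¹, z⁆ = ⁅x, z⁆⁻¹ := by
  refine eq_inv_of_mul_eq_one_left ?_
  rw [← hl.bmul_left (inv_mem hx) hx hz, inv_mul_cancel, commutatorElement_one_left]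

theorem Layer.binv_right {x z : G} (hx : x ∈ W) (hz : z ∈ W) : ⁅x, z⁻¹⁆ = ⁅x, z⁆⁻¹ := by
  refine eq_inv_of_mul_eq_one_left ?_
  rw [← hl.bmul_right hx (inv_mem hz) hz, inv_mul_cancel, commutatorElement_one_right]

theorem Layer.bE_left {e z : G} (he : e ∈ E) (hz : z ∈ W) : ⁅e, z⁆ = 1 :=
  commutatorElement_eq_one_iff_mul_comm.2 (hl.central he hz).symm

theorem Layer.bE_right {x e : G} (hx : x ∈ W) (he : e ∈ E) : ⁅x, e⁆ = 1 :=
  commutatorElement_eq_one_iff_mul_comm.2 (hl.central he hx)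

theorem Layer.conj_mem {a x : G} (hx : x ∈ W) : a * x * a⁻¹ ∈ W :=
  hl.hW.conj_mem x hx a

theorem Layer.commW {a x : G} (hx : x ∈ W) : ⁅x, a⁆ ∈ W := by
  rw [show ⁅x, a⁆ = x * (a * x⁻¹ * a⁻¹) by simp [commutatorElement_def, mul_assoc]]
  exact mul_mem hx (hl.conj_mem (inv_mem hx))

/-- `⁅⁅x, y⁆, a⁆` in terms of `⁅x, a⁆` and `⁅y, a⁆`. -/
theorem Layer.pair {x y a : G} (hx : x ∈ W) (hy : y ∈ W) :
    ⁅⁅x, y⁆, a⁆ = ⁅⁅x, a⁆, y⁆ * ⁅x, ⁅y, a⁆⁆ * ⁅⁅x, a⁆, ⁅y, a⁆⁆⁻¹ := by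
  set u := ⁅x, a⁆ with hu
  set w := ⁅y, a⁆ with hw
  have huW : u ∈ W := hl.commW hx
  have hwW : w ∈ W := hl.commW hy
  have ex : a * x * a⁻¹ = u⁻¹ * x := by simp [hu, commutatorElement_def, mul_assoc]
  have ey : a * y * a⁻¹ = w⁻¹ * y := by simp [hw, commutatorElement_def, mul_assoc]
  have h1 : a * ⁅x, y⁆ * a⁻¹ = ⁅a * x * a⁻¹, a * y * a⁻¹⁆ :=
    map_commutatorElement (MulAut.conj a).toMonoidHom x y
  rw [ex, ey, hl.bmul_left (inv_mem huW) hx (mul_mem (inv_mem hwW) hy),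
    hl.bmul_right (inv_mem huW) (inv_mem hwW) hy, hl.bmul_right hx (inv_mem hwW) hy,
    hl.binv_left huW (inv_mem hwW), hl.binv_left huW hy, hl.binv_right huW hwW, inv_inv,
    hl.binv_right hx hwW] at h1
  rw [show ⁅⁅x, y⁆, a⁆ = ⁅x, y⁆ * (a * ⁅x, y⁆ * a⁻¹)⁻¹ by simp [commutatorElement_def, mul_assoc], h1]
  have hc : ∀ {c d : G}, c ∈ E → d ∈ E → c * d = d * c := fun hc hd => hl.central hd (hl.hEW hc)
  have m1 : ⁅u, w⁆ ∈ E := hl.comm_mem huW hwW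
  have m2 : ⁅u, y⁆ ∈ E := hl.comm_mem huW hy
  have m3 : ⁅x, w⁆ ∈ E := hl.comm_mem hx hwW
  have m4 : ⁅x, y⁆ ∈ E := hl.comm_mem hx hy
  generalize ⁅u, w⁆ = A₁ at m1 ⊢
  generalize ⁅u, y⁆ = B at m2 ⊢
  generalize ⁅x, w⁆ = C at m3 ⊢
  generalize ⁅x, y⁆ = D at m4 ⊢
  calc D * (A₁ * B⁻¹ * (C⁻¹ * D))⁻¹ = C * (B * A₁⁻¹) := by simp [mul_assoc]
    _ = B * A₁⁻¹ * C := hc m3 (mul_mem m2 (inv_mem m1))
    _ = B * C * A₁⁻¹ := by rw [mul_assoc, hc (inv_mem m1) m3, mul_assoc]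

theorem Layer.le_normalizer {J : Subgroup G} (hEJ : E ≤ J) (hJW : J ≤ W) :
    W ≤ normalizer (J : Set G) := by
  have h1 : ∀ w ∈ W, ∀ x ∈ J, w * x * w⁻¹ ∈ J := fun w hw x hx => by
    rw [show w * x * w⁻¹ = ⁅w, x⁆ * x by simp [commutatorElement_def, mul_assoc]]
    exact mul_mem (hEJ (hl.comm_mem hw (hJW hx))) hx
  intro w hw
  refine mem_normalizer_iff.2 fun x => ⟨h1 w hw x, fun hx => ?_⟩
  simpa [mul_assoc] using h1 w⁻¹ (inv_mem hw) _ hx

/-- The ascending series. -/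
def annN (W E A : Subgroup G) : ℕ → Subgroup G
  | 0 => E
  | m + 1 => ann W (annN W E A m) A

theorem Layer.annN_le (A : Subgroup G) : ∀ m, E ≤ annN W E A m ∧ annN W E A m ≤ W
  | 0 => ⟨le_rfl, hl.hEW⟩
  | m + 1 => by
    obtain ⟨h1, h2⟩ := Layer.annN_le A m
    refine ⟨fun e he => ⟨⟨hl.hEW he, hl.le_normalizer h1 h2 (hl.hEW he)⟩, fun a _ => h1 ?_⟩,
      fun x hx => hx.1.1⟩
    rw [show ⁅e, a⁆ = e * (a * e⁻¹ * a⁻¹) by simp [commutatorElement_def, mul_assoc]]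
    exact mul_mem he (hl.hE.conj_mem _ (inv_mem he) a)

theorem Layer.mem_annN_succ {A : Subgroup G} {m : ℕ} {x : G} (hx : x ∈ W)
    (h : ∀ a ∈ A, ⁅x, a⁆ ∈ annN W E A m) : x ∈ annN W E A (m + 1) :=
  ⟨⟨hx, hl.le_normalizer (hl.annN_le A m).1 (hl.annN_le A m).2 hx⟩, h⟩

omit hl in
theorem iter_le_of_le_annN {A : Subgroup G} : ∀ (m k : ℕ),
    Cfsg.iterCommutator W A k ≤ annN W E A m → Cfsg.iterCommutator W A (k + m) ≤ E
  | 0, _, h => h
  | m + 1, k, h => by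
    rw [show k + (m + 1) = (k + 1) + m by omega]
    exact iter_le_of_le_annN m (k + 1) (commutator_le.2 fun x hx a ha => (h hx).2 a ha)

/-- The descending series over `E`. -/
def low (W E A : Subgroup G) (k : ℕ) : Subgroup G :=
  Cfsg.iterCommutator W A k ⊔ E

theorem Layer.iter_le (A : Subgroup G) : ∀ k, Cfsg.iterCommutator W A k ≤ W
  | 0 => le_rfl
  | k + 1 => (commutator_mono (Layer.iter_le A k) le_rfl).trans
    (haveI := hl.hW; commutator_le_left W A)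

theorem Layer.low_le (A : Subgroup G) (k : ℕ) : low W E A k ≤ W :=
  sup_le (hl.iter_le A k) hl.hEW

theorem Layer.comm_low {A : Subgroup G} {k : ℕ} {x a : G} (hx : x ∈ low W E A k) (ha : a ∈ A) :
    ⁅x, a⁆ ∈ low W E A (k + 1) :=
  haveI := hl.hE
  ConjFun.commutator_sup_le_sup (commutator_mem_commutator hx ha)

theorem Layer.low_mono {A : Subgroup G} {k m : ℕ} (hkm : k ≤ m) (h : low W E A k ≤ E) :
    low W E A m ≤ E := by
  haveI := hl.hE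
  induction hkm with
  | refl => exact h
  | @step m _ ih =>
    exact sup_le ((commutator_mono (le_sup_left.trans ih) le_rfl).trans (commutator_le_left E A)) le_rfl

/-- A graded family of subgroups of `W` over `E` generated in degree zero. -/
structure Graded (W E A : Subgroup G) (P : ℕ → Subgroup G) : Prop where
  le_low : ∀ k, P k ≤ low W E A k
  comm : ∀ k, ∀ x ∈ P k, ∀ a ∈ A, ⁅x, a⁆ ∈ P (k + 1)
  gen : ∀ k, P (k + 1) ≤ closure {y | ∃ x ∈ P k, ∃ a ∈ A, ⁅x, a⁆ = y} ⊔ E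

theorem Layer.low_graded (A : Subgroup G) : Graded W E A (low W E A) := by
  refine ⟨fun _ => le_rfl, fun k x hx a ha => hl.comm_low hx ha, fun k => sup_le ?_ le_sup_right⟩
  exact le_sup_left.trans' (commutator_le.2 fun x hx a ha =>
    subset_closure ⟨x, (le_sup_left : _ ≤ low W E A k) hx, a, ha, rfl⟩)

/-- The shifting argument for the pairing. -/
theorem Layer.shift {A : Subgroup G} {P : ℕ → Subgroup G} (hP : Graded W E A P) (T : Subgroup G) (n : ℕ)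
    (hn : ∀ j, n ≤ j → low W E A j ≤ E)
    (hR : ∀ i j, n ≤ i + j + 1 → ∀ x ∈ P i, ∀ y ∈ P j, ∀ a ∈ A, ⁅⁅x, y⁆, a⁆ ∈ T) :
    ∀ i j, n ≤ i + j → ∀ x ∈ P i, ∀ y ∈ P j, ⁅x, y⁆ ∈ T := by
  have hPW : ∀ k, P k ≤ W := fun k => (hP.le_low k).trans (hl.low_le A k)
  have hzero : ∀ i j, n ≤ j → ∀ x ∈ P i, ∀ y ∈ P j, ⁅x, y⁆ ∈ T := fun i j hj x hx y hy => by
    rw [hl.bE_right (hPW i hx) (hn j hj (hP.le_low j hy))]
    exact one_mem T
  intro i
  induction i with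
  | zero => exact fun j hj => hzero 0 j (by omega)
  | succ i ih =>
    suffices H : ∀ d j, n - j ≤ d → n ≤ i + 1 + j → ∀ x ∈ P (i + 1), ∀ y ∈ P j, ⁅x, y⁆ ∈ T from
      fun j hj => H (n - j) j le_rfl hj
    intro d
    induction d with
    | zero => exact fun j hj _ => hzero _ j (by omega)
    | succ d ihd =>
      intro j hj hij x hx y hy
      by_cases hjn : n ≤ j
      · exact hzero _ j hjn x hx y hy
      let K : Subgroup G :=
        { carrier := {z | z ∈ W ∧ ⁅z, y⁆ ∈ T}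
          one_mem' := ⟨one_mem _, by simp⟩
          mul_mem' := fun {z w} hz hw => ⟨mul_mem hz.1 hw.1, by
            rw [hl.bmul_left hz.1 hw.1 (hPW j hy)]; exact mul_mem hz.2 hw.2⟩
          inv_mem' := fun {z} hz => ⟨inv_mem hz.1, by
            rw [hl.binv_left hz.1 (hPW j hy)]; exact inv_mem hz.2⟩ }
      suffices hle : P (i + 1) ≤ K from (hle hx).2
      refine (hP.gen i).trans (sup_le ((closure_le _).2 ?_) fun e he => ⟨hl.hEW he, by
        rw [hl.bE_left he (hPW j hy)]; exact one_mem T⟩)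
      rintro _ ⟨u, hu, a, ha, rfl⟩
      refine ⟨hl.commW (hPW i hu), ?_⟩
      have h1 := hR i j (by omega) u hu y hy a ha
      have h2 : ⁅u, ⁅y, a⁆⁆ ∈ T := ih (j + 1) (by omega) u hu _ (hP.comm j y hy a ha)
      have h3 : ⁅⁅u, a⁆, ⁅y, a⁆⁆ ∈ T :=
        ihd (j + 1) (by omega) (by omega) _ (hP.comm i u hu a ha) _ (hP.comm j y hy a ha)
      rw [hl.pair (hPW i hu) (hPW j hy)] at h1
      have := mul_mem (mul_mem h1 h3) (inv_mem h2)
      rwa [inv_mul_cancel_right, mul_inv_cancel_right] at this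

variable {S A N E' : Subgroup G} [Finite G] [Fact p.Prime] (hS : IsPGroup p ↥S)
  (hA : Repl S Q A N E') (hWN : W ≤ N)
include hS hA hWN

/-- Three more commutations leave `W` when the commutators with `A` commute. -/
theorem Layer.mem_annN_three {v : G} (hv : v ∈ W) (hM : AbSet v A) : v ∈ annN W E A 3 := by
  refine hl.mem_annN_succ hv fun a ha => hl.mem_annN_succ (hl.commW hv) fun b hb =>
    hl.mem_annN_succ (hl.commW (hl.commW hv)) fun c hc => ?_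
  show ⁅⁅⁅v, a⁆, b⁆, c⁆ ∈ E
  obtain ⟨r, hr, hz⟩ := hA.double_commutator hS (hWN hv) hM ha hb
  have h1 : ⁅v, r⁆ ∈ E := hl.hQE (commutator_mem_commutator hv hr.2)
  rw [show ⁅⁅v, a⁆, b⁆ = ⁅v, r⁆ * (⁅v, r⁆⁻¹ * ⁅⁅v, a⁆, b⁆) by rw [mul_inv_cancel_left]]
  generalize ⁅v, r⁆⁻¹ * ⁅⁅v, a⁆, b⁆ = z at hz ⊢
  have hzc : ⁅z, c⁆ = 1 :=
    commutatorElement_eq_one_iff_mul_comm.2 (mul_comm_of_isMulCommutative hA.hA.2.1 hz hc)
  rw [show ⁅⁅v, r⁆ * z, c⁆ = ⁅v, r⁆ * ⁅z, c⁆ * ⁅v, r⁆⁻¹ * ⁅⁅v, r⁆, c⁆ by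
    simp [commutatorElement_def, mul_assoc], hzc, mul_one, mul_inv_cancel, one_mul]
  haveI := hl.hE
  exact commutator_le_left E _ (commutator_mem_commutator h1 (mem_zpowers c))

theorem Layer.exists_low : ∃ n, low W E A n ≤ E := by
  have hnil : Group.IsNilpotent ↥S := hS.isNilpotent
  obtain ⟨n, hn⟩ := (isNilpotent_iff_lowerCentralSeries (S := S)).mp hnil
  refine ⟨n, sup_le ?_ le_rfl⟩
  have h : ∀ m, Cfsg.iterCommutator W A m ≤ S.lowerCentralSeries m := by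
    intro m
    induction m with
    | zero => exact hl.hWQ.trans hA.hQS
    | succ m ih =>
      rw [Subgroup.lowerCentralSeries_succ]
      exact commutator_mono ih hA.hA.1
  exact (h n).trans (hn.trans_le bot_le)

/-- `A` is quadratic on `⁅W, W⁆`. -/
theorem Layer.quad {x y a b : G} (hx : x ∈ W) (hy : y ∈ W) (ha : a ∈ A) (hb : b ∈ A) :
    ⁅⁅⁅x, y⁆, a⁆, b⁆ = 1 :=
  hA.quadratic hS (hWN (hl.hEW (hl.comm_mem hx hy))) (hl.hYQ (commutator_mem_commutator hx hy)) ha hb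

/-- Six commutations lead into `E`. -/
theorem Layer.six : Cfsg.iterCommutator W A 6 ≤ E := by
  classical
  have hex := hl.exists_low hS hA hWN
  set n := Nat.find hex with hnd
  have hn : low W E A n ≤ E := Nat.find_spec hex
  rcases Nat.lt_or_ge n 7 with h7 | h7
  · exact le_sup_left.trans (hl.low_mono (k := n) (m := 6) (by omega) hn)
  exfalso
  have hge : ∀ j, n ≤ j → low W E A j ≤ E := fun j hj => hl.low_mono hj hn
  have h1 : ∀ i j, n ≤ i + j → ∀ x ∈ low W E A i, ∀ y ∈ low W E A j,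
      ⁅x, y⁆ ∈ centralizer (A : Set G) := by
    refine hl.shift (hl.low_graded A) _ n hge fun i j _ x hx y hy a ha b hb => ?_
    exact (commutatorElement_eq_one_iff_mul_comm.1
      (hl.quad hS hA hWN (hl.low_le A i hx) (hl.low_le A j hy) ha hb)).symm
  have h2 : ∀ i j, n + 1 ≤ i + j → ∀ x ∈ low W E A i, ∀ y ∈ low W E A j, ⁅x, y⁆ ∈ (⊥ : Subgroup G) := by
    refine hl.shift (hl.low_graded A) _ (n + 1) (fun j hj => hge j (by omega)) fun i j hij x hx y hy a ha => ?_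
    rw [mem_bot, commutatorElement_eq_one_iff_mul_comm]
    exact ((h1 i j (by omega) x hx y hy) a ha).symm
  set k := n - 4 with hk
  have hle : low W E A k ≤ annN W E A 3 := fun v hv => by
    refine hl.mem_annN_three hS hA hWN (hl.low_le A k hv) (absSet_of_forall fun a ha b hb => ?_)
    exact commutatorElement_eq_one_iff_mul_comm.1 (mem_bot.1 (h2 (k + 1) (k + 1) (by omega) _
      (hl.comm_low hv ha) _ (hl.comm_low hv hb)))
  have := Nat.find_min' hex (sup_le (iter_le_of_le_annN 3 k (le_sup_left.trans hle)) le_rfl)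
  omega

omit hS hA hWN

theorem Layer.commute_mod {v a b : G} (hv : v ∈ W) (hab : a * b = b * a) :
    ⁅⁅v, a⁆, b⁆⁻¹ * ⁅⁅v, b⁆, a⁆ ∈ E := by
  haveI := hl.hE
  set π := QuotientGroup.mk' E
  have hc : ∀ {x y : G}, x ∈ W → y ∈ W → π x * π y = π y * π x := fun hx hy => by
    rw [← commutatorElement_eq_one_iff_mul_comm, ← map_commutatorElement]
    exact (QuotientGroup.eq_one_iff _).2 (hl.comm_mem hx hy)
  refine QuotientGroup.eq.1 ?_
  show π ⁅⁅v, a⁆, b⁆ = π ⁅⁅v, b⁆, a⁆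
  have e : ∀ a b : G, ⁅⁅v, a⁆, b⁆ =
      v * (a * v⁻¹ * a⁻¹) * ((b * a * v * (b * a)⁻¹) * (b * v⁻¹ * b⁻¹)) := fun a b => by
    simp [commutatorElement_def, mul_assoc]
  rw [e a b, e b a, ← hab]
  simp only [map_mul π (v * _), map_mul π v, map_mul π (a * b * v * (a * b)⁻¹)]
  have ha' := hl.conj_mem (a := a) (inv_mem hv)
  have hb' := hl.conj_mem (a := b) (inv_mem hv)
  have hab' := hl.conj_mem (a := a * b) hv
  generalize a * v⁻¹ * a⁻¹ = p₁ at ha' ⊢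
  generalize b * v⁻¹ * b⁻¹ = p₂ at hb' ⊢
  generalize a * b * v * (a * b)⁻¹ = p₃ at hab' ⊢
  simp only [mul_assoc]
  rw [← mul_assoc (π p₁), hc ha' hab', mul_assoc, hc ha' hb', ← mul_assoc (π p₃), hc hab' hb']
  simp only [mul_assoc]

include hS hA hWN

/-- With an involution commuting with `A`, four commutations lead into `E`. -/
theorem Layer.four (hp : p ≠ 2) (θ : G)
    (hθA : ∀ x ∈ W, ∀ a ∈ A, (θ * ⁅x, a⁆ * θ⁻¹) * ⁅θ * x * θ⁻¹, a⁆⁻¹ ∈ E)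
    (hθ2 : ∀ x ∈ W, θ * (θ * x * θ⁻¹) * θ⁻¹ * x⁻¹ ∈ E)
    (hθY : ∀ y ∈ ⁅W, W⁆, θ * y * θ⁻¹ = y → y ∈ centralizer (A : Set G)) :
    Cfsg.iterCommutator W A 4 ≤ E := by
  classical
  haveI := hl.hE
  haveI := hl.hW
  set π := QuotientGroup.mk' E with hπ
  set σ : G →* G := (MulAut.conj θ).toMonoidHom with hσ
  have hσW : ∀ {x}, x ∈ W → σ x ∈ W := fun hx => hl.conj_mem hx
  have hπ1 : ∀ {x}, π x = 1 ↔ x ∈ E := fun {x} => QuotientGroup.eq_one_iff x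
  have hc : ∀ {x y : G}, x ∈ W → y ∈ W → π x * π y = π y * π x := fun hx hy => by
    rw [← commutatorElement_eq_one_iff_mul_comm, ← map_commutatorElement]
    exact hπ1.2 (hl.comm_mem hx hy)
  -- the two parts
  let Pp : ℕ → Subgroup G := fun k => low W E A k ⊓
    ((π.comp σ).eqLocus π)
  let Pm : ℕ → Subgroup G := fun k =>
    { carrier := {x | x ∈ low W E A k ∧ π (σ x) = (π x)⁻¹}
      one_mem' := ⟨one_mem _, by simp⟩
      mul_mem' := fun {x y} hx hy => ⟨mul_mem hx.1 hy.1, by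
        rw [map_mul σ, map_mul π, hx.2, hy.2, map_mul π, mul_inv_rev, ← map_inv, ← map_inv]
        exact hc (inv_mem (hl.low_le A k hx.1)) (inv_mem (hl.low_le A k hy.1))⟩
      inv_mem' := fun {x} hx => ⟨inv_mem hx.1, by rw [map_inv σ, map_inv π, hx.2, map_inv π]⟩ }
  have hPpW : ∀ k, Pp k ≤ W := fun k => inf_le_left.trans (hl.low_le A k)
  have hPmW : ∀ k, Pm k ≤ W := fun k x hx => hl.low_le A k hx.1
  have hPp_mem : ∀ {k x}, x ∈ Pp k ↔ x ∈ low W E A k ∧ π (σ x) = π x := fun {k x} => Iff.rfl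
  have hPm_mem : ∀ {k x}, x ∈ Pm k ↔ x ∈ low W E A k ∧ π (σ x) = (π x)⁻¹ := fun {k x} => Iff.rfl
  have hσcomm : ∀ x ∈ W, ∀ a ∈ A, π (σ ⁅x, a⁆) = π ⁅σ x, a⁆ := fun x hx a ha => by
    rw [← mul_inv_eq_one, ← map_inv, ← map_mul]
    exact hπ1.2 (hθA x hx a ha)
  have hinvC : ∀ x ∈ W, ∀ y ∈ W, ∀ a : G, π y = (π x)⁻¹ → π ⁅y, a⁆ = (π ⁅x, a⁆)⁻¹ := fun x hx y hy a h => by
    rw [map_commutatorElement, h, map_commutatorElement]
    have e : π a * π x * (π a)⁻¹ = π (a * x * a⁻¹) := by simp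
    rw [commutatorElement_def, commutatorElement_def, inv_inv]
    calc (π x)⁻¹ * π a * π x * (π a)⁻¹ = π x⁻¹ * π (a * x * a⁻¹) := by simp [mul_assoc]
      _ = π (a * x * a⁻¹) * π x⁻¹ := hc (inv_mem hx) (hl.conj_mem hx)
      _ = (π x * π a * (π x)⁻¹ * (π a)⁻¹)⁻¹ := by simp [mul_assoc]
  have hPp_comm : ∀ k, ∀ x ∈ Pp k, ∀ a ∈ A, ⁅x, a⁆ ∈ Pp (k + 1) := fun k x hx a ha => by
    refine hPp_mem.2 ⟨hl.comm_low hx.1 ha, ?_⟩
    rw [hσcomm x (hPpW k hx) a ha, map_commutatorElement, (hPp_mem.1 hx).2, ← map_commutatorElement]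
  have hPm_comm : ∀ k, ∀ x ∈ Pm k, ∀ a ∈ A, ⁅x, a⁆ ∈ Pm (k + 1) := fun k x hx a ha => by
    refine hPm_mem.2 ⟨hl.comm_low hx.1 ha, ?_⟩
    rw [hσcomm x (hPmW k hx) a ha]
    exact hinvC x (hPmW k hx) _ (hσW (hPmW k hx)) a (hPm_mem.1 hx).2
  have hEPp : ∀ k, E ≤ Pp k := fun k e he => hPp_mem.2 ⟨(le_sup_right : E ≤ low W E A k) he, by
    rw [show π (σ e) = 1 from hπ1.2 (hl.hE.conj_mem e he θ), hπ1.2 he]⟩
  have hEPm : ∀ k, E ≤ Pm k := fun k e he => hPm_mem.2 ⟨(le_sup_right : E ≤ low W E A k) he, by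
    rw [show π (σ e) = 1 from hπ1.2 (hl.hE.conj_mem e he θ), hπ1.2 he, inv_one]⟩
  -- odd order
  have hodd : ∀ y ∈ W, y ^ 2 ∈ E → y ∈ E := fun y hy h2 => by
    have h3 : orderOf (π y) ∣ Nat.gcd 2 p := Nat.dvd_gcd
      (orderOf_dvd_of_pow_eq_one (by rw [← map_pow]; exact hπ1.2 h2))
      (orderOf_dvd_of_pow_eq_one (by rw [← map_pow]; exact hπ1.2 (hl.hpE y hy)))
    rw [Nat.coprime_iff_gcd_eq_one.1 ((Nat.coprime_primes Nat.prime_two Fact.out).2 hp.symm)] at h3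
    exact hπ1.1 (orderOf_eq_one_iff.1 (Nat.dvd_one.1 h3))
  have hsplit : ∀ k, (∀ z ∈ low W E A k, σ z ∈ low W E A k) →
      low W E A k ≤ Pp k ⊔ Pm k := fun k hst z hz => by
    have hzW := hl.low_le A k hz
    have hσσ : π (σ (σ z)) = π z := by
      rw [← mul_inv_eq_one, ← map_inv, ← map_mul]
      exact hπ1.2 (hθ2 z hzW)
    have h1 : z * σ z ∈ Pp k := hPp_mem.2 ⟨mul_mem hz (hst z hz), by
      rw [map_mul σ, map_mul π, hσσ, map_mul π, hc hzW (hσW hzW)]⟩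
    have h2 : z * (σ z)⁻¹ ∈ Pm k := hPm_mem.2 ⟨mul_mem hz (inv_mem (hst z hz)), by
      rw [map_mul σ, map_mul π, map_inv σ, map_inv π, hσσ, map_mul π, map_inv π, mul_inv_rev, inv_inv]⟩
    have h4 : z ^ 2 ∈ Pp k ⊔ Pm k := by
      have h3 : π (z * σ z * (z * (σ z)⁻¹)) = π (z ^ 2) := by
        have := hc hzW (hσW hzW)
        simp only [map_mul, map_inv, pow_two]
        rw [← mul_assoc, mul_assoc (π z) (π (σ z)) (π z), ← this, ← mul_assoc, mul_inv_cancel_right]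
      have h5 := mul_mem (mul_mem_sup h1 h2) ((hEPp k).trans le_sup_left (QuotientGroup.eq.1 h3))
      simpa [mul_assoc] using h5
    obtain ⟨i, hi⟩ := IsPGroup.iff_orderOf.mp (hS.to_le (hl.hWQ.trans hA.hQS)) ⟨z, hzW⟩
    rw [Subgroup.orderOf_mk] at hi
    obtain ⟨m, hm⟩ := exists_pow_eq_self_of_coprime (x := z) (n := 2) (by
      rw [hi]; exact ((Nat.coprime_primes Nat.prime_two Fact.out).2 hp.symm).pow_right i)
    rw [← hm]
    exact pow_mem h4 m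
  have hstable : ∀ k, ∀ z ∈ low W E A k, σ z ∈ low W E A k := by
    intro k
    induction k with
    | zero => exact fun z hz => (le_sup_left : W ≤ low W E A 0) (hσW (hl.low_le A 0 hz))
    | succ k ih =>
      have hle : low W E A (k + 1) ≤ (low W E A (k + 1)).comap σ := by
        refine (hl.low_graded A).gen k |>.trans (sup_le ((closure_le _).2 ?_)
          fun e he => (le_sup_right : E ≤ low W E A (k + 1)) (hl.hE.conj_mem e he θ))
        rintro _ ⟨x, hx, a, ha, rfl⟩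
        have h1 := hθA x (hl.low_le A k hx) a ha
        have h2 : ⁅σ x, a⁆ ∈ low W E A (k + 1) := hl.comm_low (ih x hx) ha
        have h3 := mul_mem ((le_sup_right : E ≤ low W E A (k + 1)) h1) h2
        show θ * ⁅x, a⁆ * θ⁻¹ ∈ low W E A (k + 1)
        change θ * ⁅x, a⁆ * θ⁻¹ * ⁅θ * x * θ⁻¹, a⁆⁻¹ * ⁅θ * x * θ⁻¹, a⁆ ∈ _ at h3
        rwa [inv_mul_cancel_right] at h3
      exact fun z hz => hle hz
  have hgenD : ∀ (k : ℕ) (D : Subgroup G), E ≤ D → D ≤ W →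
      (∀ x ∈ Pp k, ∀ a ∈ A, ⁅x, a⁆ ∈ D) → (∀ x ∈ Pm k, ∀ a ∈ A, ⁅x, a⁆ ∈ D) →
      low W E A (k + 1) ≤ D := by
    intro k D hED hDW h1 h2
    have hk : low W E A k ≤ ann W D A := (hsplit k (hstable k)).trans (sup_le
      (fun x hx => ⟨⟨hPpW k hx, hl.le_normalizer hED hDW (hPpW k hx)⟩, h1 x hx⟩)
      (fun x hx => ⟨⟨hPmW k hx, hl.le_normalizer hED hDW (hPmW k hx)⟩, h2 x hx⟩))
    refine sup_le (commutator_le.2 fun x hx a ha => ?_) hED
    exact (hk ((le_sup_left : _ ≤ low W E A k) hx)).2 a ha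
  let Dp : ℕ → Subgroup G := fun k => closure {y | ∃ x ∈ Pp k, ∃ a ∈ A, ⁅x, a⁆ = y} ⊔ E
  let Dm : ℕ → Subgroup G := fun k => closure {y | ∃ x ∈ Pm k, ∃ a ∈ A, ⁅x, a⁆ = y} ⊔ E
  have hDp : ∀ k, Dp k ≤ Pp (k + 1) := fun k => sup_le ((closure_le _).2 (by
    rintro _ ⟨x, hx, a, ha, rfl⟩; exact hPp_comm k x hx a ha)) (hEPp _)
  have hDm : ∀ k, Dm k ≤ Pm (k + 1) := fun k => sup_le ((closure_le _).2 (by
    rintro _ ⟨x, hx, a, ha, rfl⟩; exact hPm_comm k x hx a ha)) (hEPm _)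
  have hDD : ∀ k, low W E A (k + 1) ≤ Dp k ⊔ Dm k := fun k =>
    hgenD k _ (le_trans le_sup_right le_sup_left)
      (sup_le ((hDp k).trans (hPpW _)) ((hDm k).trans (hPmW _)))
      (fun x hx a ha => mem_sup_left (mem_sup_left (subset_closure ⟨x, hx, a, ha, rfl⟩)))
      (fun x hx a ha => mem_sup_right (mem_sup_left (subset_closure ⟨x, hx, a, ha, rfl⟩)))
  have hnorm : ∀ k, Dp k ≤ normalizer (Dm k : Set G) := fun k =>
    ((hDp k).trans (hPpW _)).trans (hl.le_normalizer le_sup_right ((hDm k).trans (hPmW _)))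
  have hboth : ∀ {k y}, y ∈ Pp k → y ∈ Pm k → y ∈ E := fun {k y} h1 h2 => by
    refine hodd y (hPpW k h1) (hπ1.1 ?_)
    rw [map_pow, pow_two]
    exact mul_eq_one_iff_eq_inv.2 ((hPp_mem.1 h1).2.symm.trans (hPm_mem.1 h2).2)
  have hgradP : Graded W E A Pp := by
    refine ⟨fun k => inf_le_left, hPp_comm, fun k z hz => ?_⟩
    obtain ⟨x, hx, y, hy, rfl⟩ :=
      (Coprime.mem_sup_iff_of_le_normalizer (hnorm k)).1 (hDD k (hPp_mem.1 hz).1)
    have hy' : y ∈ E := hboth (by simpa using mul_mem (inv_mem (hDp k hx)) hz) (hDm k hy)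
    exact mul_mem hx (mem_sup_right hy')
  have hgradM : Graded W E A Pm := by
    refine ⟨fun k x hx => hx.1, hPm_comm, fun k z hz => ?_⟩
    obtain ⟨x, hx, y, hy, rfl⟩ :=
      (Coprime.mem_sup_iff_of_le_normalizer (hnorm k)).1 (hDD k (hPm_mem.1 hz).1)
    have hx' : x ∈ E := hboth (hDp k hx) (by simpa using mul_mem hz (inv_mem (hDm k hy)))
    exact mul_mem (mem_sup_right hx') hy
  -- the degree
  have hex := hl.exists_low hS hA hWN
  set n := Nat.find hex with hnd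
  have hn : low W E A n ≤ E := Nat.find_spec hex
  rcases Nat.lt_or_ge n 5 with h5 | h5
  · exact le_sup_left.trans (hl.low_mono (k := n) (m := 4) (by omega) hn)
  exfalso
  have hge : ∀ j, n ≤ j → low W E A j ≤ E := fun j hj => hl.low_mono hj hn
  set k := n - 4 with hk
  have hfix : ∀ (P : ℕ → Subgroup G), Graded W E A P →
      (∀ i j, ∀ x ∈ P i, ∀ y ∈ P j, σ ⁅x, y⁆ = ⁅x, y⁆) → P k ≤ annN W E A 3 := by
    intro P hP hPfix v hv
    have hPW : ∀ i, P i ≤ W := fun i => (hP.le_low i).trans (hl.low_le A i)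
    have hcA : ∀ i j, ∀ x ∈ P i, ∀ y ∈ P j, ⁅x, y⁆ ∈ centralizer (A : Set G) := fun i j x hx y hy =>
      hθY _ (commutator_mem_commutator (hPW i hx) (hPW j hy)) (hPfix i j x hx y hy)
    have hsh : ∀ i j, n ≤ i + j → ∀ x ∈ P i, ∀ y ∈ P j, ⁅x, y⁆ ∈ (⊥ : Subgroup G) :=
      hl.shift hP _ n hge fun i j _ x hx y hy a ha => by
        rw [mem_bot, commutatorElement_eq_one_iff_mul_comm]
        exact ((hcA i j x hx y hy) a ha).symm
    refine hl.mem_annN_three hS hA hWN (hPW k hv) (absSet_of_forall fun b hb c hc' => ?_)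
    have hinv : ∀ b ∈ A, ∀ w, w ∈ P (k + 1) → ⁅⁅v, b⁆, w⁆ = ⁅v, ⁅w, b⁻¹⁆⁆ := by
      intro b hb w hw
      have hvW := hPW k hv
      have hwW := hPW _ hw
      have hu : ⁅v, b⁆ ∈ W := hl.commW hvW
      have hu' : ⁅w, b⁻¹⁆ ∈ W := hl.commW hwW
      have e2 : b⁻¹ * w * b = ⁅w, b⁻¹⁆⁻¹ * w := by simp [commutatorElement_def, mul_assoc]
      have e1 : b * v * b⁻¹ = ⁅v, b⁆⁻¹ * v := by simp [commutatorElement_def, mul_assoc]
      have h2 : ⁅v, b⁻¹ * w * b⁆ ∈ centralizer (A : Set G) := by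
        rw [e2, hl.bmul_right hvW (inv_mem hu') hwW, hl.binv_right hvW hu']
        exact mul_mem (inv_mem (hcA k (k + 1 + 1) v hv _ (hP.comm _ w hw _ (inv_mem hb))))
          (hcA k (k + 1) v hv w hw)
      have h1 : ⁅b * v * b⁻¹, w⁆ = ⁅v, b⁻¹ * w * b⁆ := by
        have h3 : b * ⁅v, b⁻¹ * w * b⁆ * b⁻¹ = ⁅b * v * b⁻¹, w⁆ := by
          simp [commutatorElement_def, mul_assoc]
        rw [← h3, h2 b hb, mul_inv_cancel_right]
      rw [e1, e2, hl.bmul_left (inv_mem hu) hvW hwW, hl.bmul_right hvW (inv_mem hu') hwW,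
        hl.binv_left hu hwW, hl.binv_right hvW hu'] at h1
      exact inv_injective (mul_right_cancel h1)
    have hS2 : ∀ b ∈ A, ∀ c ∈ A, ⁅⁅v, b⁆, ⁅v, c⁆⁆ = ⁅v, ⁅⁅v, c⁆, b⁆⁆⁻¹ := by
      intro b hb c hc
      have hx : ⁅v, c⁆ ∈ P (k + 1) := hP.comm k v hv c hc
      have hd : ⁅⁅v, c⁆, b⁆ ∈ P (k + 1 + 1) := hP.comm _ _ hx b hb
      have hd' : ⁅⁅⁅v, c⁆, b⁆, b⁻¹⁆ ∈ P (k + 1 + 1 + 1) := hP.comm _ _ hd _ (inv_mem hb)
      rw [hinv b hb _ hx]
      have e : ⁅⁅v, c⁆, b⁻¹⁆ = ⁅⁅v, c⁆, b⁆⁻¹ * ⁅⁅⁅v, c⁆, b⁆, b⁻¹⁆ := by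
        simp [commutatorElement_def, mul_assoc]
      rw [e, hl.bmul_right (hPW k hv) (inv_mem (hPW _ hd)) (hPW _ hd'), hl.binv_right (hPW k hv) (hPW _ hd),
        mem_bot.1 (hsh k _ (by omega) v hv _ hd'), mul_one]
    have hsym : ∀ b ∈ A, ∀ c ∈ A, ⁅v, ⁅⁅v, c⁆, b⁆⁆ = ⁅v, ⁅⁅v, b⁆, c⁆⁆ := by
      intro b hb c hc
      have h1 := hl.commute_mod (hPW k hv) (mul_comm_of_isMulCommutative hA.hA.2.1 hc hb)
      conv_rhs => rw [show ⁅⁅v, b⁆, c⁆ = ⁅⁅v, c⁆, b⁆ * (⁅⁅v, c⁆, b⁆⁻¹ * ⁅⁅v, b⁆, c⁆) by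
        rw [mul_inv_cancel_left]]
      rw [hl.bmul_right (hPW k hv) (hl.commW (hl.commW (hPW k hv))) (hl.hEW h1),
        hl.bE_right (hPW k hv) h1, mul_one]
    have huW : ⁅v, b⁆ ∈ W := hl.commW (hPW k hv)
    have hwW : ⁅v, c⁆ ∈ W := hl.commW (hPW k hv)
    refine commutatorElement_eq_one_iff_mul_comm.1 ?_
    set s := ⁅⁅v, b⁆, ⁅v, c⁆⁆ with hs
    have hss : s = s⁻¹ := by
      conv_lhs => rw [hs, hS2 b hb c hc', hsym b hb c hc', ← hS2 c hc' b hb, ← commutatorElement_inv]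
    have hsp : s ^ p = 1 := by
      have h1 : ∀ m : ℕ, ⁅⁅v, b⁆ ^ m, ⁅v, c⁆⁆ = s ^ m := by
        intro m
        induction m with
        | zero => simp
        | succ m ih => rw [pow_succ, hl.bmul_left (pow_mem huW m) huW hwW, ih, pow_succ]
      rw [← h1, hl.bE_left (hl.hpE _ huW) hwW]
    have hs2 : s ^ 2 = 1 := by rw [pow_two]; exact mul_eq_one_iff_eq_inv.2 hss
    have h3 : orderOf s ∣ Nat.gcd 2 p := Nat.dvd_gcd (orderOf_dvd_of_pow_eq_one hs2) (orderOf_dvd_of_pow_eq_one hsp)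
    rw [Nat.coprime_iff_gcd_eq_one.1 ((Nat.coprime_primes Nat.prime_two Fact.out).2 hp.symm)] at h3
    exact orderOf_eq_one_iff.1 (Nat.dvd_one.1 h3)
  have hbeta : ∀ x ∈ W, ∀ y ∈ W, ∀ x' ∈ W, ∀ y' ∈ W, π x = π x' → π y = π y' → ⁅x, y⁆ = ⁅x', y'⁆ := by
    intro x hx y hy x' hx' y' hy' e1 e2
    have g1 := QuotientGroup.eq.1 e1.symm
    have g2 := QuotientGroup.eq.1 e2.symm
    rw [show x = x' * (x'⁻¹ * x) by rw [mul_inv_cancel_left], show y = y' * (y'⁻¹ * y) by rw [mul_inv_cancel_left],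
      hl.bmul_left hx' (hl.hEW g1) (mul_mem hy' (hl.hEW g2)), hl.bE_left g1 (mul_mem hy' (hl.hEW g2)),
      hl.bmul_right hx' hy' (hl.hEW g2), hl.bE_right hx' g2, mul_one, mul_one]
  have hp' : Pp k ≤ annN W E A 3 := hfix Pp hgradP fun i j x hx y hy => by
    rw [map_commutatorElement]
    exact hbeta _ (hσW (hPpW i hx)) _ (hσW (hPpW j hy)) _ (hPpW i hx) _ (hPpW j hy)
      (hPp_mem.1 hx).2 (hPp_mem.1 hy).2
  have hm' : Pm k ≤ annN W E A 3 := hfix Pm hgradM fun i j x hx y hy => by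
    rw [map_commutatorElement, hbeta _ (hσW (hPmW i hx)) _ (hσW (hPmW j hy)) _ (inv_mem (hPmW i hx)) _
      (inv_mem (hPmW j hy)) (by rw [(hPm_mem.1 hx).2, map_inv]) (by rw [(hPm_mem.1 hy).2, map_inv]),
      hl.binv_left (hPmW i hx) (inv_mem (hPmW j hy)), hl.binv_right (hPmW i hx) (hPmW j hy), inv_inv]
  have hle : low W E A k ≤ annN W E A 3 := (hsplit k (hstable k)).trans (sup_le hp' hm')
  have := Nat.find_min' hex (sup_le (iter_le_of_le_annN 3 k (le_sup_left.trans hle)) le_rfl)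
  omega

end Cfsg.Agent.JTransfer
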